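/-
Permutable subgroups and Kegel's enlargement argument.

* `Permutes A B`: the product sets `A * B` and `B * A` agree;
* `Permutes.coe_sup`, `Permutes.sup_left`, `Permutes.conj`, `Permutes.isPGroup_sup`;
* `exists_normalized_ge`: if `A` permutes with every conjugate of `B`, it lies in such a subgroup
  (with a prescribed inherited property) that is normalised by the normal closure of `B`.
-/
import Cfsg.Agent.EqLemmas
import Cfsg.Agent.Lib.Solvable.Converse
import Cfsg.Agent.Lib.Coprime.Factorization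

set_option autoImplicit false

open scoped Pointwise

namespace Cfsg.Agent.Products

variable {G : Type*} [Group G]

/-- The two product sets agree. -/
def Permutes (A B : Subgroup G) : Prop := (A : Set G) * (B : Set G) = (B : Set G) * (A : Set G)

theorem Permutes.symm {A B : Subgroup G} (h : Permutes A B) : Permutes B A := Eq.symm h

theorem Permutes.coe_sup {A B : Subgroup G} (h : Permutes A B) :
    ((A ⊔ B : Subgroup G) : Set G) = (A : Set G) * (B : Set G) := by
  obtain ⟨T, hT⟩ := Solvable.exists_subgroup_mul h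
  have : A ⊔ B = T := by
    refine le_antisymm (sup_le (fun a ha => ?_) fun b hb => ?_) ?_
    · rw [← SetLike.mem_coe, hT]; exact ⟨a, ha, 1, B.one_mem, mul_one a⟩
    · rw [← SetLike.mem_coe, hT]; exact ⟨1, A.one_mem, b, hb, one_mul b⟩
    · intro x hx
      rw [← SetLike.mem_coe, hT] at hx
      obtain ⟨a, ha, b, hb, rfl⟩ := hx
      exact mul_mem (Subgroup.mem_sup_left ha) (Subgroup.mem_sup_right hb)
  rw [this, hT]

theorem permutes_of_coe_eq {A B S : Subgroup G} (h : (S : Set G) = (A : Set G) * (B : Set G)) :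
    Permutes A B := by
  have h1 := congrArg (·⁻¹) h
  simp only [inv_coe_set, mul_inv_rev] at h1
  exact h.symm.trans h1

theorem permutes_of_card [Finite G] {A B S : Subgroup G} (hA : A ≤ S) (hB : B ≤ S)
    (hc : Nat.card A * Nat.card B = Nat.card S * Nat.card (A ⊓ B : Subgroup G)) :
    (S : Set G) = (A : Set G) * (B : Set G) := by
  refine (Set.eq_of_subset_of_ncard_le ?_ ?_ (Set.toFinite _)).symm
  · rintro _ ⟨a, ha, b, hb, rfl⟩
    exact mul_mem (hA ha) (hB hb)
  · refine le_of_eq ?_
    rw [← Nat.card_coe_set_eq, ← Nat.card_coe_set_eq]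
    refine Nat.eq_of_mul_eq_mul_right (Nat.card_pos (α := (A ⊓ B : Subgroup G))) ?_
    rw [Coprime.card_mul_inf, hc]
    rfl

theorem Permutes.card_sup [Finite G] {A B : Subgroup G} (h : Permutes A B) :
    Nat.card (A ⊔ B : Subgroup G) * Nat.card (A ⊓ B : Subgroup G) = Nat.card A * Nat.card B := by
  rw [← Coprime.card_mul_inf A B, ← h.coe_sup]
  rfl

theorem Permutes.isPGroup_sup [Finite G] {p : ℕ} [Fact p.Prime] {A B : Subgroup G}
    (h : Permutes A B) (hA : IsPGroup p A) (hB : IsPGroup p B) :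
    IsPGroup p (A ⊔ B : Subgroup G) := by
  obtain ⟨i, hi⟩ := IsPGroup.iff_card.mp hA
  obtain ⟨j, hj⟩ := IsPGroup.iff_card.mp hB
  have hd : Nat.card (A ⊔ B : Subgroup G) ∣ p ^ (i + j) :=
    ⟨Nat.card (A ⊓ B : Subgroup G), by rw [h.card_sup, hi, hj, pow_add]⟩
  obtain ⟨k, -, hk⟩ := (Nat.dvd_prime_pow Fact.out).mp hd
  exact IsPGroup.of_card hk

theorem Permutes.sup_left {A B C : Subgroup G} (hA : Permutes A C) (hB : Permutes B C) :
    Permutes (A ⊔ B) C := by
  have key : ∀ d ∈ A ⊔ B, ∀ c ∈ C, c * d ∈ ((A ⊔ B : Subgroup G) : Set G) * (C : Set G) := by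
    intro d hd
    rw [Subgroup.sup_eq_closure] at hd
    refine Subgroup.closure_induction_left ?_ ?_ ?_ hd
    · exact fun c hc => ⟨1, one_mem _, c, hc, by simp⟩
    · intro x hx y _ ih c hc
      have h1 : c * x ∈ ((A ⊔ B : Subgroup G) : Set G) * (C : Set G) := by
        rcases hx with hx | hx
        · have : c * x ∈ (A : Set G) * C := hA.symm ▸ Set.mul_mem_mul hc hx
          obtain ⟨a, ha, c', hc', e⟩ := this
          exact ⟨a, Subgroup.mem_sup_left ha, c', hc', e⟩
        · have : c * x ∈ (B : Set G) * C := hB.symm ▸ Set.mul_mem_mul hc hx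
          obtain ⟨a, ha, c', hc', e⟩ := this
          exact ⟨a, Subgroup.mem_sup_right ha, c', hc', e⟩
      obtain ⟨a, ha, c', hc', e⟩ := h1
      obtain ⟨a', ha', c'', hc'', e'⟩ := ih c' hc'
      refine ⟨a * a', mul_mem ha ha', c'', hc'', ?_⟩
      simp only at e e' ⊢
      rw [mul_assoc, e', ← mul_assoc, e, mul_assoc]
    · intro x hx y _ ih c hc
      have h1 : c * x⁻¹ ∈ ((A ⊔ B : Subgroup G) : Set G) * (C : Set G) := by
        rcases hx with hx | hx
        · have : c * x⁻¹ ∈ (A : Set G) * C := hA.symm ▸ Set.mul_mem_mul hc (A.inv_mem hx)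
          obtain ⟨a, ha, c', hc', e⟩ := this
          exact ⟨a, Subgroup.mem_sup_left ha, c', hc', e⟩
        · have : c * x⁻¹ ∈ (B : Set G) * C := hB.symm ▸ Set.mul_mem_mul hc (B.inv_mem hx)
          obtain ⟨a, ha, c', hc', e⟩ := this
          exact ⟨a, Subgroup.mem_sup_right ha, c', hc', e⟩
      obtain ⟨a, ha, c', hc', e⟩ := h1
      obtain ⟨a', ha', c'', hc'', e'⟩ := ih c' hc'
      refine ⟨a * a', mul_mem ha ha', c'', hc'', ?_⟩
      simp only at e e' ⊢
      rw [mul_assoc, e', ← mul_assoc, e, mul_assoc]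
  refine Set.Subset.antisymm (fun x hx => ?_) (fun x hx => ?_)
  · have h1 : x⁻¹ ∈ (C : Set G) * ((A ⊔ B : Subgroup G) : Set G) := by
      have := Set.inv_mem_inv.2 hx
      rwa [mul_inv_rev, inv_coe_set, inv_coe_set] at this
    obtain ⟨c, hc, d, hd, e⟩ := h1
    have h2 := Set.inv_mem_inv.2 (key d hd c hc)
    rw [mul_inv_rev, inv_coe_set, inv_coe_set] at h2
    simp only at e
    rwa [e, inv_inv] at h2
  · obtain ⟨c, hc, d, hd, rfl⟩ := hx
    exact key d hd c hc

theorem Permutes.conj {A B : Subgroup G} (h : Permutes A B) (g : G) :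
    Permutes (MulAut.conj g • A) (MulAut.conj g • B) := by
  have e : ∀ X Y : Subgroup G, ((MulAut.conj g • X : Subgroup G) : Set G) *
      ((MulAut.conj g • Y : Subgroup G) : Set G) = MulAut.conj g '' ((X : Set G) * (Y : Set G)) :=
    fun X Y => (Set.image_mul (MulAut.conj g)).symm
  show _ * _ = _ * _
  rw [e, e, h]

/-- If `A` permutes with all conjugates of `B` and has a property `Q` preserved by the enlargement
step, then some `A' ≥ A` with the same two properties is normalised by the normal closure of `B`. -/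
theorem exists_normalized_ge [Finite G] {A B : Subgroup G}
    (hperm : ∀ g : G, Permutes A (MulAut.conj g • B)) (Q : Subgroup G → Prop) (hQ : Q A)
    (hstep : ∀ (A' : Subgroup G) (g b : G), Q A' → (∀ x : G, Permutes A' (MulAut.conj x • B)) →
      b ∈ MulAut.conj g • B → (∀ x : G, Permutes (A' ⊔ MulAut.conj b • A') (MulAut.conj x • B)) →
      A' ⊔ MulAut.conj b • A' ⊔ MulAut.conj g • B = A' ⊔ MulAut.conj g • B →
      Q (A' ⊔ MulAut.conj b • A')) :
    ∃ A' : Subgroup G, A ≤ A' ∧ Q A' ∧ (∀ x : G, Permutes A' (MulAut.conj x • B)) ∧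
      Subgroup.normalClosure (B : Set G) ≤ Subgroup.normalizer (A' : Set G) := by
  obtain ⟨A', ⟨hle, hQ', hp'⟩, hmax⟩ := (Set.toFinite {A' : Subgroup G | A ≤ A' ∧ Q A' ∧
    ∀ x : G, Permutes A' (MulAut.conj x • B)}).exists_maximal ⟨A, le_rfl, hQ, hperm⟩
  refine ⟨A', hle, hQ', hp', ?_⟩
  have main : ∀ g : G, ∀ b ∈ MulAut.conj g • B, MulAut.conj b • A' ≤ A' := by
    intro g b hb
    have hperm2 : ∀ x : G, Permutes (MulAut.conj b • A') (MulAut.conj x • B) := fun x => by
      have := (hp' (b⁻¹ * x)).conj b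
      rwa [Solvable.conj_conj, mul_inv_cancel_left] at this
    have heq : A' ⊔ MulAut.conj b • A' ⊔ MulAut.conj g • B = A' ⊔ MulAut.conj g • B := by
      refine le_antisymm (sup_le (sup_le le_sup_left ?_) le_sup_right) (sup_le_sup_right le_sup_left _)
      intro x hx
      rw [Solvable.mem_conj_iff] at hx
      have hb' : b ∈ A' ⊔ MulAut.conj g • B := Subgroup.mem_sup_right hb
      have := mul_mem (mul_mem hb' (Subgroup.mem_sup_left hx)) (inv_mem hb')
      rwa [mul_assoc b⁻¹, mul_inv_cancel_left, mul_inv_cancel_right] at this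
    exact le_sup_right.trans (hmax ⟨hle.trans le_sup_left,
      hstep A' g b hQ' hp' hb (fun x => (hp' x).sup_left (hperm2 x)) heq,
      fun x => (hp' x).sup_left (hperm2 x)⟩ le_sup_left)
  refine (Subgroup.closure_le _).mpr fun x hx => ?_
  obtain ⟨b, hb, hconj⟩ := Group.mem_conjugatesOfSet_iff.mp hx
  obtain ⟨c, rfl⟩ := isConj_iff.mp hconj
  have hmem : c * b * c⁻¹ ∈ MulAut.conj c • B := by
    rw [Solvable.mem_conj_iff]; simpa [mul_assoc] using hb
  exact Solvable.mem_normalizer_iff_conj.mpr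
    (Subgroup.eq_of_le_of_card_ge (main c _ hmem) (Solvable.card_conj _ _).ge)

end Cfsg.Agent.Products
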