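/-
Factorisations `G = AB` by nilpotent subgroups of coprime order: bookkeeping.

* `zc A`: the centre of `A`, as a subgroup of `G`;
* `exists_pPart`: `A = Q × K`, a `p`-part and a `p'`-part, characterised by element orders;
* `NPair A B`: `G = AB`, both nilpotent, coprime orders; closed under swapping and conjugation;
* `coreIn r L`: `O_r(L)` as a subgroup of `G`, with the facts on factorised solvable subgroups.
-/
import Cfsg.Agent.Lib.Products.Permute
import Cfsg.Agent.S0559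
import Cfsg.Agent.S0562
import Cfsg.Agent.Lib.Cores.Fitting
import Cfsg.Agent.Lib.Solvable.Fitting
import Cfsg.Agent.Lib.Transfer.NilpotentHall

set_option autoImplicit false

open scoped Pointwise commutatorElement

namespace Cfsg.Agent.Products

open Solvable (mem_conj_iff card_conj mem_normalizer_iff_conj)

variable {G : Type*} [Group G]

theorem eq_one_of_coprime_card [Finite G] {A B : Subgroup G}
    (h : (Nat.card A).Coprime (Nat.card B)) {x : G} (hA : x ∈ A) (hB : x ∈ B) : x = 1 :=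
  orderOf_eq_one_iff.mp (Nat.eq_one_of_dvd_coprimes h (Subgroup.orderOf_dvd_natCard _ hA)
    (Subgroup.orderOf_dvd_natCard _ hB))

/-- The centre of a subgroup, inside the ambient group. -/
def zc (A : Subgroup G) : Subgroup G := A ⊓ Subgroup.centralizer (A : Set G)

theorem zc_le (A : Subgroup G) : zc A ≤ A := inf_le_left

theorem zc_commute {A : Subgroup G} {z a : G} (hz : z ∈ zc A) (ha : a ∈ A) : a * z = z * a :=
  Subgroup.mem_centralizer_iff.mp hz.2 a ha

theorem mem_zc {A : Subgroup G} {z : G} (hz : z ∈ A) (h : ∀ a ∈ A, a * z = z * a) : z ∈ zc A :=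
  ⟨hz, Subgroup.mem_centralizer_iff.mpr h⟩

theorem zc_conj_mem {A : Subgroup G} (g : G) {z : G} (hz : z ∈ zc A) :
    g * z * g⁻¹ ∈ zc (MulAut.conj g • A) := by
  refine mem_zc (mem_conj_iff _ _ _ |>.mpr ?_) fun a ha => ?_
  · simpa [mul_assoc] using hz.1
  · rw [mem_conj_iff] at ha
    have h := congrArg (fun t => g * t * g⁻¹) (zc_commute hz ha)
    simpa [mul_assoc] using h

/-- A nilpotent subgroup splits into its `p`-part and its `p'`-part. -/
theorem exists_pPart [Finite G] (p : ℕ) [Fact p.Prime] (A : Subgroup G) (hA : Group.IsNilpotent A) :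
    ∃ Q K : Subgroup G, Q ≤ A ∧ K ≤ A ∧ IsPGroup p Q ∧ (Nat.card K).Coprime p ∧
      A ≤ Subgroup.normalizer (Q : Set G) ∧ A ≤ Subgroup.normalizer (K : Set G) ∧ Q ⊔ K = A ∧
      (∀ q ∈ Q, ∀ k ∈ K, q * k = k * q) ∧ Nat.card Q * Nat.card K = Nat.card A ∧
      (∀ x ∈ A, (∃ i, orderOf x = p ^ i) → x ∈ Q) ∧
      (∀ x ∈ A, (orderOf x).Coprime p → x ∈ K) := by
  haveI := hA
  obtain ⟨Q, K, hQ, hK, hs, hc, hcen⟩ := Transfer.exists_nilpotent_split (p := p) A
  have hcomm : ∀ q ∈ Q, ∀ k ∈ K, q * k = k * q := fun q hq k hk =>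
    Subgroup.mem_centralizer_iff.mp (hcen hk) q hq
  have hNQ : A ≤ Subgroup.normalizer (Q : Set G) :=
    hs ▸ sup_le Subgroup.le_normalizer (hcen.trans (Subgroup.centralizer_le_normalizer _))
  have hNK : A ≤ Subgroup.normalizer (K : Set G) := by
    refine hs ▸ sup_le (le_trans ?_ (Subgroup.centralizer_le_normalizer _)) Subgroup.le_normalizer
    exact fun q hq => Subgroup.mem_centralizer_iff.mpr fun k hk => (hcomm q hq k hk).symm
  have hdec : ∀ x ∈ A, ∃ q ∈ Q, ∃ k ∈ K, x = q * k := fun x hx => by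
    have : x ∈ ((Q ⊔ K : Subgroup G) : Set G) := hs.symm ▸ hx
    rw [Subgroup.coe_mul_of_right_le_normalizer_left Q K
      ((hs ▸ le_sup_right : K ≤ A).trans hNQ)] at this
    obtain ⟨q, hq, k, hk, e⟩ := this
    exact ⟨q, hq, k, hk, e.symm⟩
  refine ⟨Q, K, hs ▸ le_sup_left, hs ▸ le_sup_right, hQ, hK, hNQ, hNK, hs, hcomm, hc, ?_, ?_⟩
  · rintro x hx ⟨i, hi⟩
    obtain ⟨q, hq, k, hk, rfl⟩ := hdec x hx
    have hpow : (q * k) ^ Nat.card K ∈ Q := by
      rw [(Commute.mul_pow (hcomm q hq k hk)),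
        orderOf_dvd_iff_pow_eq_one.mp (Subgroup.orderOf_dvd_natCard _ hk), mul_one]
      exact pow_mem hq _
    have hco : (orderOf (q * k)).Coprime (Nat.card K) := hi ▸ (hK.pow_right i).symm
    obtain ⟨m, hm⟩ := exists_pow_eq_self_of_coprime hco.symm
    rw [← hm]
    exact pow_mem hpow m
  · intro x hx hxp
    obtain ⟨q, hq, k, hk, rfl⟩ := hdec x hx
    obtain ⟨j, hj⟩ := IsPGroup.iff_card.mp hQ
    have hpow : (q * k) ^ Nat.card Q ∈ K := by
      rw [(Commute.mul_pow (hcomm q hq k hk)),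
        orderOf_dvd_iff_pow_eq_one.mp (Subgroup.orderOf_dvd_natCard _ hq), one_mul]
      exact pow_mem hk _
    have hco : (orderOf (q * k)).Coprime (Nat.card Q) := hj ▸ hxp.pow_right j
    obtain ⟨m, hm⟩ := exists_pow_eq_self_of_coprime hco.symm
    rw [← hm]
    exact pow_mem hpow m

/-- Elements of coprime order in a nilpotent subgroup commute. -/
theorem commute_of_mem [Finite G] {A : Subgroup G} (hA : Group.IsNilpotent A) {x y : G} (hx : x ∈ A)
    (hy : y ∈ A) (h : (orderOf x).Coprime (orderOf y)) : x * y = y * x := by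
  haveI := hA
  exact congrArg Subtype.val (CN.commute_of_isNilpotent (a := (⟨x, hx⟩ : A)) (b := ⟨y, hy⟩)
    (by rwa [Subgroup.orderOf_mk, Subgroup.orderOf_mk])).eq

theorem exists_zc_orderOf [Finite G] {A : Subgroup G} (hA : Group.IsNilpotent A) {r : ℕ}
    (hr : r.Prime) (hd : r ∣ Nat.card A) : ∃ z ∈ zc A, orderOf z = r := by
  haveI := Fact.mk hr
  obtain ⟨Q, K, hQA, -, hQ, hK, -, -, hs, hcomm, hc, -, -⟩ := exists_pPart r A hA
  have hdQ : r ∣ Nat.card Q :=
    (hc ▸ hd : r ∣ Nat.card Q * Nat.card K) |> (Nat.Coprime.dvd_of_dvd_mul_right hK.symm)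
  haveI : Nontrivial Q := Finite.one_lt_card_iff_nontrivial.mp
    (lt_of_lt_of_le hr.one_lt (Nat.le_of_dvd Nat.card_pos hdQ))
  haveI := hQ.center_nontrivial
  obtain ⟨m, hm⟩ := IsPGroup.iff_card.mp (hQ.to_subgroup (Subgroup.center Q))
  have hm0 : m ≠ 0 := fun h => by
    rw [h, pow_zero] at hm
    exact (Finite.one_lt_card (α := Subgroup.center Q)).ne' hm
  obtain ⟨⟨z, hz⟩, hzr⟩ := exists_prime_orderOf_dvd_card' (G := Subgroup.center Q) r
    (hm ▸ dvd_pow_self r hm0)
  rw [Subgroup.orderOf_mk] at hzr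
  refine ⟨z, mem_zc (hQA z.2) fun a ha => ?_, by rwa [Subgroup.orderOf_coe]⟩
  have h1 : A ≤ Subgroup.centralizer ({(z : G)} : Set G) := by
    rw [← hs]
    refine sup_le (fun q hq => ?_) fun k hk => ?_
    · exact Subgroup.mem_centralizer_singleton_iff.mpr
        (congrArg Subtype.val (Subgroup.mem_center_iff.mp hz ⟨q, hq⟩))
    · exact Subgroup.mem_centralizer_singleton_iff.mpr (hcomm _ z.2 k hk).symm
  exact Subgroup.mem_centralizer_singleton_iff.mp (h1 ha)

/-- `G = AB` with nilpotent subgroups of coprime orders. -/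
structure NPair (A B : Subgroup G) : Prop where
  nilA : Group.IsNilpotent A
  nilB : Group.IsNilpotent B
  cop : (Nat.card A).Coprime (Nat.card B)
  mul : ∀ g : G, ∃ a ∈ A, ∃ b ∈ B, g = a * b

theorem NPair.symm {A B : Subgroup G} (P : NPair A B) : NPair B A := by
  refine ⟨P.nilB, P.nilA, P.cop.symm, fun g => ?_⟩
  obtain ⟨a, ha, b, hb, e⟩ := P.mul g⁻¹
  exact ⟨b⁻¹, inv_mem hb, a⁻¹, inv_mem ha, by rw [← mul_inv_rev, ← e, inv_inv]⟩

theorem NPair.inf_eq_bot {A B : Subgroup G} (P : NPair A B) : A ⊓ B = ⊥ :=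
  Solvable.inf_eq_bot_of_coprime P.cop

theorem isNilpotent_conj {A : Subgroup G} (g : G) (hA : Group.IsNilpotent A) :
    Group.IsNilpotent ↥(MulAut.conj g • A) := by
  haveI := hA
  exact Group.nilpotent_of_mulEquiv (Subgroup.equivSMul (MulAut.conj g) A)

theorem NPair.conj [Finite G] {A B : Subgroup G} (P : NPair A B) (u v : G) :
    NPair (MulAut.conj u • A) (MulAut.conj v • B) :=
  ⟨isNilpotent_conj u P.nilA, isNilpotent_conj v P.nilB, by
    rw [card_conj, card_conj]; exact P.cop,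
    (Cfsg.Agent.S0559.result A B _ _ P.mul ⟨u, rfl⟩ ⟨v, rfl⟩).1⟩

theorem NPair.card_mul [Finite G] {A B : Subgroup G} (P : NPair A B) :
    Nat.card A * Nat.card B = Nat.card G := by
  have h : ((A : Set G) * (B : Set G)) = Set.univ := Set.eq_univ_of_forall fun g => by
    obtain ⟨a, ha, b, hb, e⟩ := P.mul g
    exact ⟨a, ha, b, hb, e.symm⟩
  have := Coprime.card_mul_inf A B
  rw [h, P.inf_eq_bot, Subgroup.card_bot, mul_one, Nat.card_univ] at this
  exact this.symm

/-- A `B`-coprime subgroup of a factorised subgroup, normalised by its `A`-part, lies in `A`. -/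
theorem le_left_of_coprime [Finite G] {A B L V : Subgroup G}
    (hfac : ∀ x ∈ L, ∃ a ∈ A ⊓ L, ∃ b ∈ B ⊓ L, x = a * b) (hVL : V ≤ L)
    (hAB : (Nat.card A).Coprime (Nat.card B)) (hN : A ⊓ L ≤ Subgroup.normalizer (V : Set G))
    (hV : (Nat.card V).Coprime (Nat.card B)) : V ≤ A := by
  have hp : Permutes (A ⊓ L) V := permutes_of_coe_eq (S := A ⊓ L ⊔ V)
    (Subgroup.coe_mul_of_left_le_normalizer_right _ _ hN)
  have hd : (Nat.card (A ⊓ L ⊔ V : Subgroup G)).Coprime (Nat.card B) := by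
    refine Nat.Coprime.coprime_dvd_left ⟨_, hp.card_sup.symm⟩ (Nat.Coprime.mul_left ?_ hV)
    exact hAB.coprime_dvd_left (Subgroup.card_dvd_of_le inf_le_left)
  intro x hx
  obtain ⟨a, ha, b, hb, e⟩ := hfac x (hVL hx)
  have hb' : b ∈ A ⊓ L ⊔ V := by
    rw [show b = a⁻¹ * x by rw [e, inv_mul_cancel_left]]
    exact mul_mem (Subgroup.mem_sup_left (inv_mem ha)) (Subgroup.mem_sup_right hx)
  rw [e, eq_one_of_coprime_card hd hb' hb.1, mul_one]
  exact ha.1

/-- `O_r(L)` inside `G`. -/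
def coreIn (r : ℕ) (L : Subgroup G) : Subgroup G := (Cfsg.pCore r L).map L.subtype

theorem coreIn_le (r : ℕ) (L : Subgroup G) : coreIn r L ≤ L := Subgroup.map_subtype_le _

theorem isPGroup_coreIn (r : ℕ) (L : Subgroup G) : IsPGroup r (coreIn r L) :=
  (Cores.isPGroup_pCore r L).map _

theorem le_normalizer_coreIn (r : ℕ) (L : Subgroup G) :
    L ≤ Subgroup.normalizer (coreIn r L : Set G) :=
  Subgroup.le_normalizer.trans (Cores.normalizer_le_normalizer_map (Cfsg.pCore r L))

theorem coreIn_eq_bot_of_not_dvd [Finite G] {r : ℕ} [Fact r.Prime] {L : Subgroup G}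
    (h : ¬ r ∣ Nat.card G) : coreIn r L = ⊥ := by
  obtain ⟨n, hn⟩ := IsPGroup.iff_card.mp (isPGroup_coreIn r L)
  rcases n with _ | n
  · exact Subgroup.card_eq_one.mp (by rw [hn, pow_zero])
  · exact absurd ((hn ▸ dvd_pow_self r n.succ_ne_zero).trans (Subgroup.card_subgroup_dvd_card _)) h

/-- The image of the Fitting subgroup is the join of the cores. -/
theorem map_fitting_le [Finite G] {L W : Subgroup G}
    (h : ∀ r : ℕ, r.Prime → coreIn r L ≤ W) : (Cfsg.fittingSubgroup L).map L.subtype ≤ W := by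
  rw [Cores.fittingSubgroup_eq_iSup_pCore, Subgroup.map_iSup]
  exact iSup_le fun r => h r r.2

theorem centralizer_map_fitting_le [Finite G] {L : Subgroup G} [Group.IsSolvable L] {x : G}
    (hx : x ∈ L) (h : ∀ r : ℕ, r.Prime → ∀ v ∈ coreIn r L, v * x = x * v) :
    x ∈ (Cfsg.fittingSubgroup L).map L.subtype := by
  refine ⟨⟨x, hx⟩, Solvable.centralizer_fitting_le L (Subgroup.mem_centralizer_iff.mpr fun v hv => ?_), rfl⟩
  have hle : (Cfsg.fittingSubgroup L).map L.subtype ≤ Subgroup.centralizer ({x} : Set G) :=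
    map_fitting_le fun r hr w hw => Subgroup.mem_centralizer_singleton_iff.mpr (h r hr w hw)
  exact Subtype.ext (Subgroup.mem_centralizer_singleton_iff.mp (hle ⟨v, hv, rfl⟩))

end Cfsg.Agent.Products
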