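/-
Products `G = AB` with `A` abelian and `B` of class at most two.

* `exists_sylow_mul`: the `p`-parts of nilpotent factors multiply to a Sylow subgroup;
* `pCore_factor`: `O_p(G)` is factorised (here only for abelian `A`);
* `exists_metabelian_normal`: if `B' ≠ 1`, some normal subgroup meeting `B'` lies in a product of
  two abelian subgroups of `A` and `B`;
* `derivedSeries_eq_bot`: the derived length is at most `2 (1 + Ω(|B'|))`.
-/
import Cfsg.Agent.Lib.Products.KegelWielandt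
import Cfsg.Agent.S0572

set_option autoImplicit false

open scoped Pointwise commutatorElement

namespace Cfsg.Agent.Products

open Solvable (mem_conj_iff card_conj mem_normalizer_iff_conj)

universe u

variable {G : Type u} [Group G] [Finite G]

theorem exists_sylow_mul (p : ℕ) [Fact p.Prime] {A B : Subgroup G} (hA : Group.IsNilpotent A)
    (hB : Group.IsNilpotent B) (hAB : ∀ g : G, ∃ a ∈ A, ∃ b ∈ B, g = a * b) :
    ∃ (QA QB : Subgroup G) (T : Sylow p G), QA ≤ A ∧ QB ≤ B ∧ IsPGroup p QB ∧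
      B ≤ Subgroup.normalizer (QB : Set G) ∧ ((T : Subgroup G) : Set G) = (QA : Set G) * (QB : Set G) := by
  obtain ⟨QA, KA, hQAA, -, hQA, hKA, hNA, -, -, -, hcA, -, -⟩ := exists_pPart p A hA
  obtain ⟨QB, KB, hQBB, -, hQB, hKB, hNB, -, -, -, hcB, -, -⟩ := exists_pPart p B hB
  obtain ⟨P, hP⟩ := hQA.exists_le_sylow
  obtain ⟨S, hS⟩ := hQB.exists_le_sylow
  obtain ⟨c, rfl⟩ := MulAction.exists_smul_eq G P S
  obtain ⟨a, ha, b, hb, hc⟩ := hAB c⁻¹
  set T : Sylow p G := a⁻¹ • P with hT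
  have hTc : (T : Subgroup G) = MulAut.conj a⁻¹ • (P : Subgroup G) := by
    rw [hT, Sylow.coe_subgroup_smul]
  have hQAT : QA ≤ T := by
    rw [hTc, ← mem_normalizer_iff_conj.mp (hNA (inv_mem ha))]
    exact Solvable.conj_mono _ hP
  have hQBT : QB ≤ T := by
    rw [Sylow.coe_subgroup_smul] at hS
    rw [hTc, ← mem_normalizer_iff_conj.mp (hNB hb)]
    refine (Solvable.conj_mono b hS).trans ?_
    change MulAut.conj b • (MulAut.conj c • (P : Subgroup G)) ≤ _
    rw [Solvable.conj_conj, show b * c = a⁻¹ by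
      rw [← inv_inv c, hc, mul_inv_rev, mul_inv_cancel_left]]
  refine ⟨QA, QB, T, hQAA, hQBB, hQB, hNB, permutes_of_card hQAT hQBT (le_antisymm ?_ ?_)⟩
  · rw [← Coprime.card_mul_inf]
    refine Nat.mul_le_mul_right _ (Nat.card_mono (Set.toFinite ((T : Subgroup G) : Set G)) ?_)
    rintro _ ⟨x, hx, y, hy, rfl⟩
    exact (T : Subgroup G).mul_mem (hQAT hx) (hQBT hy)
  · obtain ⟨i, hi⟩ := IsPGroup.iff_card.mp T.2
    obtain ⟨j, hj⟩ := IsPGroup.iff_card.mp (hQA.to_le (inf_le_left : QA ⊓ QB ≤ QA))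
    have huniv : ((A : Set G) * (B : Set G)) = Set.univ := Set.eq_univ_of_forall fun g => by
      obtain ⟨a, ha, b, hb, e⟩ := hAB g
      exact ⟨a, ha, b, hb, e.symm⟩
    have h1 := Coprime.card_mul_inf A B
    rw [huniv, Nat.card_univ, ← hcA, ← hcB] at h1
    refine Nat.le_of_dvd (Nat.mul_pos Nat.card_pos Nat.card_pos) ?_
    have h2 : Nat.card (T : Subgroup G) * Nat.card (QA ⊓ QB : Subgroup G) ∣
        (Nat.card QA * Nat.card QB) * (Nat.card KA * Nat.card KB) := by
      rw [show Nat.card QA * Nat.card QB * (Nat.card KA * Nat.card KB) =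
        Nat.card QA * Nat.card KA * (Nat.card QB * Nat.card KB) by ring, ← h1]
      exact Nat.mul_dvd_mul (Subgroup.card_subgroup_dvd_card _)
        (Subgroup.card_dvd_of_le (inf_le_inf hQAA hQBB))
    refine Nat.Coprime.dvd_of_dvd_mul_right ?_ h2
    rw [hi, hj, ← pow_add]
    exact (Nat.Coprime.mul_left hKA hKB).symm.pow_left _

/-- `O_p(G)` is factorised when `A` is abelian and `B` nilpotent. -/
theorem pCore_factor (p : ℕ) [Fact p.Prime] {A B : Subgroup G} [IsMulCommutative A]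
    (hB : Group.IsNilpotent B) (hAB : ∀ g : G, ∃ a ∈ A, ∃ b ∈ B, g = a * b) {v : G}
    (hv : v ∈ Cfsg.pCore p G) :
    ∃ a ∈ A ⊓ Cfsg.pCore p G, ∃ b ∈ B ⊓ Cfsg.pCore p G, v = a * b := by
  obtain ⟨QA, QB, T, hQA, hQB, hQBp, hNB, hT⟩ :=
    exists_sylow_mul p (Cores.isNilpotent_of_isMulCommutative A) hB hAB
  have hvT : v ∈ ((T : Subgroup G) : Set G) := Cores.pCore_le_sylow T hv
  rw [hT] at hvT
  obtain ⟨a, ha, b, hb, rfl⟩ := hvT
  set L := Cfsg.pCore p G ⊔ QB with hL
  have hLp : IsPGroup p L := by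
    rw [hL, sup_comm]
    exact hQBp.to_sup_of_normal_right (Cores.isPGroup_pCore p G)
  have haL : a ∈ L := by
    rw [show a = a * b * b⁻¹ by rw [mul_inv_cancel_right]]
    exact mul_mem (Subgroup.mem_sup_left hv) (Subgroup.mem_sup_right (inv_mem hb))
  have hBL : B ≤ Subgroup.normalizer (L : Set G) :=
    (le_inf (fun y _ => (Subgroup.normalizer_eq_top_iff.mpr inferInstance).ge (Subgroup.mem_top y))
      hNB).trans (Cores.normalizer_inf_le_normalizer_sup _ _)
  have hncl : Subgroup.normalClosure ({a} : Set G) ≤ L := by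
    refine (Subgroup.closure_le _).mpr fun x hx => ?_
    obtain ⟨y, hy, hconj⟩ := Group.mem_conjugatesOfSet_iff.mp hx
    obtain rfl : y = a := hy
    obtain ⟨g, rfl⟩ := isConj_iff.mp hconj
    obtain ⟨c, hc, d, hd, e⟩ := hAB g⁻¹
    have hg : g = d⁻¹ * c⁻¹ := by rw [← inv_inv g, e, mul_inv_rev]
    have hcomm : c⁻¹ * y = y * c⁻¹ :=
      congrArg Subtype.val (mul_comm' (⟨c⁻¹, inv_mem hc⟩ : A) ⟨y, hQA ha⟩)
    rw [hg, show d⁻¹ * c⁻¹ * y * (d⁻¹ * c⁻¹)⁻¹ = d⁻¹ * (c⁻¹ * y * c) * d⁻¹⁻¹ by group, hcomm,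
      inv_mul_cancel_right]
    exact (Subgroup.mem_normalizer_iff.mp (hBL (inv_mem hd)) y).mp haL
  have haF : a ∈ Cfsg.pCore p G :=
    Cores.le_pCore Subgroup.normalClosure_normal (hLp.to_le hncl)
      (Subgroup.subset_normalClosure rfl)
  refine ⟨a, ⟨hQA ha, haF⟩, b, ⟨hQB hb, ?_⟩, rfl⟩
  simpa using mul_mem (inv_mem haF) hv

/-- The basic step: a nontrivial normal subgroup inside a product of abelian subgroups of the
factors, which either is that product or meets `B'`. -/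
theorem exists_metabelian_normal_aux [Nontrivial G] (A B : Subgroup G) [IsMulCommutative A]
    (hB : ⁅B, B⁆ ≤ Subgroup.centralizer (B : Set G)) (hBn : Group.IsNilpotent B)
    (hAB : ∀ g : G, ∃ a ∈ A, ∃ b ∈ B, g = a * b) :
    ∃ N R A1 B1 : Subgroup G, N.Normal ∧ N ≠ ⊥ ∧ N ≤ R ∧ A1 ≤ A ∧ B1 ≤ B ∧
      (∀ x ∈ B1, ∀ y ∈ B1, x * y = y * x) ∧ (R : Set G) = (A1 : Set G) * (B1 : Set G) ∧
      (N = R ∨ N ⊓ ⁅B, B⁆ ≠ ⊥) := by
  haveI := kegel_wielandt (Cores.isNilpotent_of_isMulCommutative A) hBn hAB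
  obtain ⟨p, hp, M, hMn, hM1, hMp⟩ := Solvable.exists_normal_pGroup_ne_bot G
  haveI := Fact.mk hp
  set F := Cfsg.pCore p G with hF
  have hF1 : F ≠ ⊥ := fun e => hM1 (le_bot_iff.mp (e ▸ Cores.le_pCore hMn hMp))
  have hfac : ∀ v ∈ F, ∃ a ∈ A ⊓ F, ∃ b ∈ B ⊓ F, v = a * b := fun v hv => pCore_factor p hBn hAB hv
  have hAc : ∀ {x y : G}, x ∈ A → y ∈ A → x * y = y * x := fun hx hy =>
    congrArg Subtype.val (mul_comm' (⟨_, hx⟩ : A) ⟨_, hy⟩)
  by_cases hYc : ∀ x ∈ B ⊓ F, ∀ y ∈ B ⊓ F, x * y = y * x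
  · refine ⟨F, F, A ⊓ F, B ⊓ F, inferInstance, hF1, le_rfl, inf_le_left, inf_le_left, hYc, ?_, Or.inl rfl⟩
    refine Set.Subset.antisymm (fun v hv => ?_) ?_
    · obtain ⟨a, ha, b, hb, e⟩ := hfac v hv
      exact ⟨a, ha, b, hb, e.symm⟩
    · rintro _ ⟨a, ha, b, hb, rfl⟩
      exact F.mul_mem ha.2 hb.2
  haveI : Group.IsNilpotent F := (Cores.isPGroup_pCore p G).isNilpotent
  haveI : Nontrivial F := (Subgroup.nontrivial_iff_ne_bot F).mpr hF1
  set W := (Subgroup.center F).map F.subtype with hW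
  haveI hWn : W.Normal := Cores.map_subtype_normal_of_characteristic F _
  have hW1 : W ≠ ⊥ := fun e => Group.IsNilpotent.center_ne_bot F
    ((Subgroup.map_eq_bot_iff_of_injective _ F.subtype_injective).mp e)
  have hWF : W ≤ F := Subgroup.map_subtype_le _
  have hWc : ∀ w ∈ W, ∀ v ∈ F, v * w = w * v := by
    rintro _ ⟨w, hw, rfl⟩ v hv
    exact congrArg Subtype.val (Subgroup.mem_center_iff.mp hw ⟨v, hv⟩)
  by_cases hxW : ∀ x ∈ A ⊓ F, ∀ y ∈ B ⊓ F, x * y ∈ W → x ∈ W
  · refine ⟨W, W, A ⊓ W, B ⊓ W, hWn, hW1, le_rfl, inf_le_left, inf_le_left,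
      fun x hx y hy => hWc y hy.2 x (hWF hx.2), ?_, Or.inl rfl⟩
    refine Set.Subset.antisymm (fun v hv => ?_) ?_
    · obtain ⟨a, ha, b, hb, e⟩ := hfac v (hWF hv)
      have haW : a ∈ W := hxW a ha b hb (e ▸ hv)
      exact ⟨a, ⟨ha.1, haW⟩, b, ⟨hb.1, by
        rw [show b = a⁻¹ * v by rw [e, inv_mul_cancel_left]]
        exact W.mul_mem (W.inv_mem haW) hv⟩, e.symm⟩
    · rintro _ ⟨a, ha, b, hb, rfl⟩
      exact W.mul_mem ha.2 hb.2
  push Not at hxW
  obtain ⟨x, hx, y, hy, hxy, hxnW⟩ := hxW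
  set X1 := A ⊓ F ⊓ (W ⊔ B ⊓ F) with hX1
  set Y1 := B ⊓ F ⊓ (W ⊔ A ⊓ F) with hY1
  set D := ⁅B, B⁆ ⊓ F with hD
  set B1 := Y1 ⊔ D with hB1
  have hBB : ⁅B, B⁆ ≤ B := Subgroup.commutator_le.mpr fun a ha b hb => by
    rw [commutatorElement_def]
    exact B.mul_mem (B.mul_mem (B.mul_mem ha hb) (B.inv_mem ha)) (B.inv_mem hb)
  -- `Y1` centralises `A ∩ F`, and `X1` centralises `D`
  have hYX : Y1 ≤ Subgroup.centralizer ((A ⊓ F : Subgroup G) : Set G) := by
    refine inf_le_right.trans (sup_le (fun w hw => ?_) fun a ha => ?_)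
    · exact Subgroup.mem_centralizer_iff.mpr fun v hv => hWc w hw v hv.2
    · exact Subgroup.mem_centralizer_iff.mpr fun v hv => hAc hv.1 ha.1
  have hXD : X1 ≤ Subgroup.centralizer (D : Set G) := by
    refine inf_le_right.trans (sup_le (fun w hw => ?_) fun b hb => ?_)
    · exact Subgroup.mem_centralizer_iff.mpr fun v hv => hWc w hw v hv.2
    · exact Subgroup.mem_centralizer_iff.mpr fun v hv =>
        (Subgroup.mem_centralizer_iff.mp (hB hv.1) b hb.1).symm
  have hB1le : B1 ≤ B := sup_le (inf_le_left.trans inf_le_left) (inf_le_left.trans hBB)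
  have hXB1 : X1 ≤ Subgroup.centralizer (B1 : Set G) := by
    rw [Subgroup.le_centralizer_iff]
    refine sup_le (hYX.trans (Subgroup.centralizer_le inf_le_left)) ?_
    exact Subgroup.le_centralizer_iff.mp hXD
  have hYY : Y1 ≤ Subgroup.centralizer (Y1 : Set G) := by
    intro a ha
    have h1 : W ⊔ A ⊓ F ≤ Subgroup.centralizer ({a} : Set G) := by
      refine sup_le (fun w hw => ?_) fun c hc => ?_
      · exact Subgroup.mem_centralizer_singleton_iff.mpr (hWc w hw a ha.1.2).symm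
      · exact Subgroup.mem_centralizer_singleton_iff.mpr (Subgroup.mem_centralizer_iff.mp (hYX ha) c hc)
    exact Subgroup.mem_centralizer_iff.mpr fun b hb => Subgroup.mem_centralizer_singleton_iff.mp (h1 hb.2)
  have hB1c : B1 ≤ Subgroup.centralizer (B1 : Set G) := by
    refine sup_le ?_ ((inf_le_left.trans hB).trans (Subgroup.centralizer_le hB1le))
    rw [Subgroup.le_centralizer_iff]
    refine sup_le hYY ?_
    exact (inf_le_left.trans hB).trans (Subgroup.centralizer_le (inf_le_left.trans inf_le_left))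
  have hR : ((X1 ⊔ B1 : Subgroup G) : Set G) = (X1 : Set G) * (B1 : Set G) :=
    Subgroup.coe_mul_of_left_le_normalizer_right _ _
      (hXB1.trans (Subgroup.centralizer_le_normalizer _))
  have hxX1 : x ∈ X1 := by
    refine ⟨hx, ?_⟩
    rw [show x = x * y * y⁻¹ by rw [mul_inv_cancel_right]]
    exact mul_mem (Subgroup.mem_sup_left hxy) (Subgroup.mem_sup_right (inv_mem hy))
  have hyY1 : y ∈ Y1 := by
    refine ⟨hy, ?_⟩
    rw [show y = x⁻¹ * (x * y) by rw [inv_mul_cancel_left]]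
    exact mul_mem (Subgroup.mem_sup_right (inv_mem hx)) (Subgroup.mem_sup_left hxy)
  have hWR : W ≤ X1 ⊔ B1 := by
    intro w hw
    obtain ⟨a, ha, b, hb, e⟩ := hfac w (hWF hw)
    rw [e]
    refine mul_mem (Subgroup.mem_sup_left ⟨ha, ?_⟩)
      (Subgroup.mem_sup_right (Subgroup.mem_sup_left (T := D) ⟨hb, ?_⟩))
    · rw [show a = w * b⁻¹ by rw [e, mul_inv_cancel_right]]
      exact mul_mem (Subgroup.mem_sup_left hw) (Subgroup.mem_sup_right (inv_mem hb))
    · rw [show b = a⁻¹ * w by rw [e, inv_mul_cancel_left]]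
      exact mul_mem (Subgroup.mem_sup_right (inv_mem ha)) (Subgroup.mem_sup_left hw)
  have hncl : Subgroup.normalClosure ({x} : Set G) ≤ X1 ⊔ B1 := by
    refine (Subgroup.closure_le _).mpr fun t ht => ?_
    obtain ⟨x', hx', hconj⟩ := Group.mem_conjugatesOfSet_iff.mp ht
    rw [Set.mem_singleton_iff] at hx'
    rw [hx'] at hconj
    obtain ⟨g, rfl⟩ := isConj_iff.mp hconj
    obtain ⟨c, hc, d, hd, e⟩ := hAB g⁻¹
    have hg : g = d⁻¹ * c⁻¹ := by rw [← inv_inv g, e, mul_inv_rev]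
    have e1 : g * x * g⁻¹ = d⁻¹ * (x * y) * d * y⁻¹ * ⁅y, d⁻¹⁆ := by
      rw [hg, show d⁻¹ * c⁻¹ * x * (d⁻¹ * c⁻¹)⁻¹ = d⁻¹ * (c⁻¹ * x * c) * d by group,
        hAc (A.inv_mem hc) hx.1, inv_mul_cancel_right, commutatorElement_def]
      group
    have h1 : d⁻¹ * (x * y) * d ∈ W := by simpa using hWn.conj_mem _ hxy d⁻¹
    have h2 : ⁅y, d⁻¹⁆ ∈ D := by
      refine ⟨Subgroup.commutator_mem_commutator hy.1 (B.inv_mem hd), ?_⟩
      rw [commutatorElement_def, show y * d⁻¹ * y⁻¹ * d⁻¹⁻¹ = y * (d⁻¹ * y⁻¹ * d⁻¹⁻¹) by group]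
      exact F.mul_mem hy.2 ((inferInstance : F.Normal).conj_mem _ (F.inv_mem hy.2) _)
    rw [SetLike.mem_coe, e1]
    exact mul_mem (mul_mem (hWR h1) (Subgroup.mem_sup_right (Subgroup.mem_sup_left (inv_mem hyY1))))
      (Subgroup.mem_sup_right (Subgroup.mem_sup_right h2))
  have hx1 : x ≠ 1 := fun e => hxnW (e ▸ W.one_mem)
  have hxN : x ∈ Subgroup.normalClosure ({x} : Set G) := Subgroup.subset_normalClosure rfl
  refine ⟨_, X1 ⊔ B1, X1, B1, Subgroup.normalClosure_normal, fun e => hx1 (Subgroup.mem_bot.mp (e ▸ hxN)),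
    hncl, inf_le_left.trans inf_le_left, hB1le, fun a ha b hb => (Subgroup.mem_centralizer_iff.mp (hB1c ha) b hb).symm,
    hR, Or.inr fun hbot => hxnW ?_⟩
  -- `x` commutes with `B ∩ F`, as the commutators would lie in `N ∩ B' = 1`
  have hxF : ∀ v ∈ F, v * x = x * v := by
    intro v hv
    obtain ⟨a, ha, b, hb, rfl⟩ := hfac v hv
    have hbx : b * x = x * b := by
      have hw : b * (x * y) = x * y * b := hWc _ hxy b hb.2
      have h1 : x * b * x⁻¹ * b⁻¹ ∈ Subgroup.normalClosure ({x} : Set G) ⊓ ⁅B, B⁆ := by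
        refine ⟨?_, ?_⟩
        · rw [show x * b * x⁻¹ * b⁻¹ = x * (b * x⁻¹ * b⁻¹) by group]
          exact mul_mem hxN (Subgroup.normalClosure_normal.conj_mem _ (inv_mem hxN) b)
        · have e2 : x * b * x⁻¹ * b⁻¹ = ⁅y⁻¹, b⁆ := by
            rw [commutatorElement_def, inv_inv]
            have h3 : x = x * y * y⁻¹ := by rw [mul_inv_cancel_right]
            have h4 : y⁻¹ * b * y = (x * y)⁻¹ * (x * b * x⁻¹) * (x * y) := by group
            rw [h4]
            have h5 : x * b * x⁻¹ * (x * y) = x * y * (x * b * x⁻¹) := hWc _ hxy _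
              (F.mul_mem (F.mul_mem hx.2 hb.2) (F.inv_mem hx.2))
            rw [mul_assoc ((x * y)⁻¹), h5, inv_mul_cancel_left]
          rw [e2]
          exact Subgroup.commutator_mem_commutator (B.inv_mem hy.1) hb.1
      rw [hbot, Subgroup.mem_bot, mul_inv_eq_one, mul_inv_eq_iff_eq_mul] at h1
      exact h1.symm
    rw [mul_assoc, hbx, ← mul_assoc, hAc ha.1 hx.1, mul_assoc]
  exact ⟨⟨x, hx.2⟩, Subgroup.mem_center_iff.mpr fun v => Subtype.ext (hxF v v.2), rfl⟩

/-- If `B' ≠ 1`, a normal subgroup meeting `B'` lies in a product of abelian subgroups. -/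
theorem exists_metabelian_normal (A B : Subgroup G) [IsMulCommutative A]
    (hB : ⁅B, B⁆ ≤ Subgroup.centralizer (B : Set G)) (hBn : Group.IsNilpotent B)
    (hAB : ∀ g : G, ∃ a ∈ A, ∃ b ∈ B, g = a * b) (hB' : ⁅B, B⁆ ≠ ⊥) :
    ∃ N R A1 B1 : Subgroup G, N.Normal ∧ N ≤ R ∧ A1 ≤ A ∧
      (∀ x ∈ B1, ∀ y ∈ B1, x * y = y * x) ∧ (R : Set G) = (A1 : Set G) * (B1 : Set G) ∧
      N ⊓ ⁅B, B⁆ ≠ ⊥ := by
  obtain ⟨K, ⟨hKn, hKfac, hKB⟩, hKmax⟩ := Set.Finite.exists_maximal
    (Set.toFinite {K : Subgroup G | K.Normal ∧ (∀ k ∈ K, ∃ a ∈ A ⊓ K, ∃ b ∈ B ⊓ K, k = a * b) ∧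
      K ⊓ ⁅B, B⁆ = ⊥})
    ⟨⊥, inferInstance, fun k hk => ⟨1, one_mem _, 1, one_mem _, by
      rw [Subgroup.mem_bot.mp hk, mul_one]⟩, bot_inf_eq _⟩
  haveI := hKn
  have hKtop : K ≠ ⊤ := fun e => hB' (by rwa [e, top_inf_eq] at hKB)
  haveI : Nontrivial (G ⧸ K) := QuotientGroup.nontrivial_iff.mpr hKtop
  set f := QuotientGroup.mk' K with hf
  haveI : IsMulCommutative (A.map f) := inferInstance
  have hBmap : ⁅B.map f, B.map f⁆ = (⁅B, B⁆).map f := (Subgroup.map_commutator B B f).symm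
  obtain ⟨N, R, A1, B1, hNn, hN1, hNR, hA1, hB1, hB1c, hR, hNor⟩ :=
    exists_metabelian_normal_aux (A.map f) (B.map f) (by
      rw [hBmap]
      refine (Subgroup.map_mono hB).trans ?_
      rintro _ ⟨c, hc, rfl⟩
      refine Subgroup.mem_centralizer_iff.mpr ?_
      rintro _ ⟨b, hb, rfl⟩
      rw [← map_mul, ← map_mul, Subgroup.mem_centralizer_iff.mp hc b hb])
      (Cores.isNilpotent_map f hBn)
      (fun g => by
        obtain ⟨g, rfl⟩ := QuotientGroup.mk'_surjective K g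
        obtain ⟨a, ha, b, hb, rfl⟩ := hAB g
        exact ⟨_, Subgroup.mem_map_of_mem _ ha, _, Subgroup.mem_map_of_mem _ hb, map_mul _ a b⟩)
  have hpre : ((R.comap f : Subgroup G) : Set G) =
      ((A ⊓ A1.comap f : Subgroup G) : Set G) * ((B ⊓ B1.comap f : Subgroup G) : Set G) := by
    refine Set.Subset.antisymm (fun r hr => ?_) ?_
    · have hr' : f r ∈ (R : Set (G ⧸ K)) := hr
      rw [hR] at hr'
      obtain ⟨a', ha', b', hb', e⟩ := hr'
      obtain ⟨a, ha, rfl⟩ := hA1 ha'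
      obtain ⟨b, hb, rfl⟩ := hB1 hb'
      have hk : a⁻¹ * r * b⁻¹ ∈ K := by
        rw [← QuotientGroup.ker_mk' K, MonoidHom.mem_ker, ← hf, map_mul, map_mul, map_inv, map_inv,
          ← e]
        simp
      obtain ⟨c, hc, d, hd, ecd⟩ := hKfac _ hk
      refine ⟨a * c, Subgroup.mem_inf.mpr ⟨A.mul_mem ha hc.1, ?_⟩, d * b,
        Subgroup.mem_inf.mpr ⟨B.mul_mem hd.1 hb, ?_⟩, ?_⟩
      · rw [Subgroup.mem_comap, map_mul, (QuotientGroup.eq_one_iff c).mpr hc.2 |> fun h => (h : f c = 1),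
          mul_one]
        exact ha'
      · rw [Subgroup.mem_comap, map_mul, (QuotientGroup.eq_one_iff d).mpr hd.2 |> fun h => (h : f d = 1),
          one_mul]
        exact hb'
      · show a * c * (d * b) = r
        calc a * c * (d * b) = a * (c * d) * b := by group
          _ = _ := by rw [← ecd]; group
    · rintro _ ⟨a, ha, b, hb, rfl⟩
      show f (a * b) ∈ (R : Set (G ⧸ K))
      rw [hR, map_mul]
      exact ⟨_, ha.2, _, hb.2, rfl⟩
  haveI := hNn
  refine ⟨N.comap f, R.comap f, A ⊓ A1.comap f, B ⊓ B1.comap f, inferInstance, Subgroup.comap_mono hNR,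
    inf_le_left, fun x hx y hy => ?_, hpre, fun hbot => ?_⟩
  · -- commutators lie in `B' ∩ K`
    have h1 : ⁅x, y⁆ ∈ K ⊓ ⁅B, B⁆ := by
      refine Subgroup.mem_inf.mpr ⟨?_, Subgroup.commutator_mem_commutator hx.1 hy.1⟩
      rw [← QuotientGroup.ker_mk' K, MonoidHom.mem_ker, ← hf, map_commutatorElement,
        commutatorElement_eq_one_iff_mul_comm]
      exact hB1c _ hx.2 _ hy.2
    rwa [hKB, Subgroup.mem_bot, commutatorElement_eq_one_iff_mul_comm] at h1
  · rcases hNor with rfl | hNB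
    · -- then the preimage is a larger member of the family
      have hKN : K ≤ N.comap f := fun k hk => by
        rw [Subgroup.mem_comap, show f k = 1 from (QuotientGroup.eq_one_iff k).mpr hk]
        exact one_mem _
      have hle := hKmax ⟨inferInstance, fun r hr => by
        have hr' : r ∈ ((N.comap f : Subgroup G) : Set G) := hr
        rw [hpre] at hr'
        obtain ⟨a, ha, b, hb, e⟩ := hr'
        refine ⟨a, Subgroup.mem_inf.mpr ⟨ha.1, ?_⟩, b, Subgroup.mem_inf.mpr ⟨hb.1, ?_⟩, e.symm⟩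
        · rw [← SetLike.mem_coe, hpre]; exact ⟨a, ha, 1, one_mem _, mul_one a⟩
        · rw [← SetLike.mem_coe, hpre]; exact ⟨1, one_mem _, b, hb, one_mul b⟩, hbot⟩ hKN
      refine hN1 ?_
      rw [← Subgroup.map_comap_eq_self_of_surjective (QuotientGroup.mk'_surjective K) N,
        Subgroup.map_eq_bot_iff, QuotientGroup.ker_mk']
      exact hle
    · refine hNB (eq_bot_iff.mpr fun z hz => ?_)
      obtain ⟨hzN, hzB⟩ := hz
      rw [hBmap] at hzB
      obtain ⟨w, hw, rfl⟩ := hzB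
      have : w ∈ N.comap f ⊓ ⁅B, B⁆ := ⟨hzN, hw⟩
      rw [hbot, Subgroup.mem_bot] at this
      rw [this, map_one]
      exact one_mem _

theorem derivedSeries_add_le {H : Subgroup G} {m : ℕ} (h : derivedSeries G m ≤ H) :
    ∀ k, derivedSeries G (m + k) ≤ (derivedSeries H k).map H.subtype := by
  intro k
  induction k with
  | zero => rw [derivedSeries_zero, ← MonoidHom.range_eq_map, Subgroup.range_subtype]; exact h
  | succ k ih =>
    rw [← add_assoc, derivedSeries_succ, derivedSeries_succ, Subgroup.map_commutator]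
    exact Subgroup.commutator_mono ih ih

theorem derivedSeries_eq_bot : ∀ (n : ℕ) (G : Type u) [Group G] [Finite G] (A B : Subgroup G),
    Nat.card (⁅B, B⁆ : Subgroup G) = n → IsMulCommutative A → Group.IsNilpotent B →
      ⁅B, B⁆ ≤ Subgroup.centralizer (B : Set G) → (∀ g : G, ∃ a ∈ A, ∃ b ∈ B, g = a * b) →
      derivedSeries G (2 * (1 + n.primeFactorsList.length)) = ⊥ := by
  intro n
  induction n using Nat.strong_induction_on with
  | _ n ih =>
    intro G _ _ A B hn hA hBn hB hAB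
    haveI := hA
    by_cases hB' : ⁅B, B⁆ = ⊥
    · have h1 : n = 1 := by rw [← hn, hB', Subgroup.card_bot]
      haveI : IsMulCommutative B := ⟨⟨fun a b => Subtype.ext (Subgroup.mem_centralizer_iff.mp
        ((Subgroup.commutator_eq_bot_iff_le_centralizer.mp hB') b.2) a a.2)⟩⟩
      rw [h1, Nat.primeFactorsList_one, List.length_nil]
      exact Cfsg.Agent.S0572.result A B hAB
    obtain ⟨N, R, A1, B1, hNn, hNR, hA1, hB1c, hR, hNB⟩ := exists_metabelian_normal A B hB hBn hAB hB'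
    haveI := hNn
    set f := QuotientGroup.mk' N with hf
    have hcard := Solvable.card_eq_card_map_mul f (⁅B, B⁆)
    rw [hn, Subgroup.map_commutator, hf, QuotientGroup.ker_mk'] at hcard
    set k := Nat.card (⁅B, B⁆ ⊓ N : Subgroup G) with hk
    set m := Nat.card (⁅B.map f, B.map f⁆ : Subgroup (G ⧸ N)) with hm
    have hk1 : 1 < k := by
      refine Finite.one_lt_card_iff_nontrivial.mpr ((Subgroup.nontrivial_iff_ne_bot _).mpr ?_)
      rwa [inf_comm]
    have hm0 : 0 < m := Nat.card_pos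
    have hmn : m < n := by rw [hcard]; exact lt_mul_right hm0 hk1
    have hq := ih m hmn (G ⧸ N) (A.map f) (B.map f) rfl inferInstance (Cores.isNilpotent_map f hBn)
      (by
        rw [← Subgroup.map_commutator]
        refine (Subgroup.map_mono hB).trans ?_
        rintro _ ⟨c, hc, rfl⟩
        refine Subgroup.mem_centralizer_iff.mpr ?_
        rintro _ ⟨b, hb, rfl⟩
        rw [← map_mul, ← map_mul, Subgroup.mem_centralizer_iff.mp hc b hb])
      (fun g => by
        obtain ⟨g, rfl⟩ := QuotientGroup.mk'_surjective N g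
        obtain ⟨a, ha, b, hb, rfl⟩ := hAB g
        exact ⟨_, Subgroup.mem_map_of_mem _ ha, _, Subgroup.mem_map_of_mem _ hb, map_mul _ a b⟩)
    have hlen : m.primeFactorsList.length + 1 ≤ n.primeFactorsList.length := by
      rw [hcard, (Nat.perm_primeFactorsList_mul hm0.ne' (by omega)).length_eq, List.length_append]
      have : k.primeFactorsList ≠ [] := fun e => by
        have h := Nat.primeFactorsList_eq_nil k |>.mp e
        omega
      have := List.length_pos_iff.mpr this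
      omega
    have hle : derivedSeries G (2 * (1 + m.primeFactorsList.length)) ≤ R := by
      refine le_trans ?_ hNR
      rw [← QuotientGroup.ker_mk' N, ← Subgroup.map_eq_bot_iff,
        map_derivedSeries_eq (QuotientGroup.mk'_surjective N)]
      exact hq
    have hA1R : A1 ≤ R := fun a ha => by
      rw [← SetLike.mem_coe, hR]; exact ⟨a, ha, 1, one_mem _, mul_one a⟩
    have hB1R : B1 ≤ R := fun b hb => by
      rw [← SetLike.mem_coe, hR]; exact ⟨1, one_mem _, b, hb, one_mul b⟩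
    haveI : IsMulCommutative (A1.subgroupOf R) := ⟨⟨fun a b => Subtype.ext (Subtype.ext
      (congrArg (Subtype.val (p := fun x => x ∈ A))
        (mul_comm' (⟨((a : R) : G), hA1 a.2⟩ : A) ⟨((b : R) : G), hA1 b.2⟩)))⟩⟩
    haveI : IsMulCommutative (B1.subgroupOf R) := ⟨⟨fun a b => Subtype.ext (Subtype.ext
      (hB1c _ a.2 _ b.2))⟩⟩
    have hR2 : derivedSeries R 2 = ⊥ :=
      Cfsg.Agent.S0572.result (A1.subgroupOf R) (B1.subgroupOf R) fun r => by
        have hr : (r : G) ∈ (R : Set G) := r.2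
        rw [hR] at hr
        obtain ⟨a, ha, b, hb, e⟩ := hr
        exact ⟨⟨a, hA1R ha⟩, ha, ⟨b, hB1R hb⟩, hb, Subtype.ext e.symm⟩
    refine le_bot_iff.mp ((derivedSeries_antitone G (a := 2 * (1 + m.primeFactorsList.length) + 2)
      (by omega)).trans ?_)
    refine (derivedSeries_add_le hle 2).trans ?_
    rw [hR2, Subgroup.map_bot]

end Cfsg.Agent.Products
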