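/-
The simple minimal counterexample to Wielandt's theorem, first part.

`Cex G`: `G` is simple, not solvable, and every proper subgroup with a nilpotent coprime
factorisation inherited from an `NPair` is solvable.
Main result `Cex.sup_eq_top`: nontrivial normal subgroups of `A` and of `B` always generate `G`.
-/
import Cfsg.Agent.Lib.Products.Nilpotent
import Cfsg.Agent.Lib.CharApp.Burnside

set_option autoImplicit false

open scoped Pointwise commutatorElement

namespace Cfsg.Agent.Products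

open Solvable (mem_conj_iff card_conj mem_normalizer_iff_conj)

variable {G : Type*} [Group G]

/-- A minimal counterexample to the coprime case. -/
structure Cex (G : Type*) [Group G] : Prop where
  simple : IsSimpleGroup G
  nonsolv : ¬ Group.IsSolvable G
  ih : ∀ (A B L : Subgroup G), NPair A B → L ≠ ⊤ →
    (∀ x ∈ L, ∃ a ∈ A ⊓ L, ∃ b ∈ B ⊓ L, x = a * b) → Group.IsSolvable L

variable [Finite G] {A B : Subgroup G}

theorem Cex.normalizer_ne_top (S : Cex G) {X : Subgroup G} (h1 : X ≠ ⊥) (h2 : X ≠ ⊤) :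
    Subgroup.normalizer (X : Set G) ≠ ⊤ := fun e =>
  ((S.simple.eq_bot_or_eq_top_of_normal X (Subgroup.normalizer_eq_top_iff.mp e)).elim h1 h2)

theorem Cex.ne_top (S : Cex G) (P : NPair A B) : A ≠ ⊤ := fun e => S.nonsolv (by
  haveI : Group.IsNilpotent (⊤ : Subgroup G) := e ▸ P.nilA
  haveI : Group.IsNilpotent G := Group.nilpotent_of_mulEquiv Subgroup.topEquiv
  infer_instance)

theorem Cex.ne_bot (S : Cex G) (P : NPair A B) : A ≠ ⊥ := fun e => S.ne_top P.symm
  (eq_top_iff.mpr fun g _ => by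
    obtain ⟨a, ha, b, hb, rfl⟩ := P.mul g
    rw [e, Subgroup.mem_bot] at ha
    rwa [ha, one_mul])

theorem Cex.center_eq_bot (S : Cex G) : Subgroup.center G = ⊥ :=
  (S.simple.eq_bot_or_eq_top_of_normal _ inferInstance).resolve_right fun e => S.nonsolv (by
    letI : CommGroup G := { (inferInstance : Group G) with
      mul_comm := fun a b => Subgroup.mem_center_iff.mp (e ▸ Subgroup.mem_top b) a }
    infer_instance)

theorem Cex.centralizer_ne_top (S : Cex G) {x : G} (hx : x ≠ 1) :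
    Subgroup.centralizer ({x} : Set G) ≠ ⊤ := fun e => hx (by
  have h : x ∈ Subgroup.center G := Subgroup.mem_center_iff.mpr fun g =>
    Subgroup.mem_centralizer_singleton_iff.mp (e ▸ Subgroup.mem_top g)
  rwa [S.center_eq_bot, Subgroup.mem_bot] at h)

/-- Burnside: `A` has at least two prime divisors. -/
theorem Cex.exists_prime_ne (S : Cex G) (P : NPair A B) (p : ℕ) (hp : p.Prime) :
    ∃ r : ℕ, r.Prime ∧ r ≠ p ∧ r ∣ Nat.card A := by
  by_contra hno
  push Not at hno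
  obtain ⟨k, hk⟩ : ∃ k, Nat.card A = p ^ k := by
    refine ⟨_, Nat.eq_prime_pow_of_unique_prime_dvd Nat.card_pos.ne' fun {d} hd hdA => ?_⟩
    by_contra hne
    exact hno d hd hne hdA
  haveI := P.nilB
  have hB1 : Nat.card B ≠ 1 := fun e => S.ne_bot P.symm (Subgroup.card_eq_one.mp e)
  obtain ⟨r, hr, hrd⟩ := Nat.exists_prime_and_dvd hB1
  obtain ⟨y, hy, hyr⟩ := exists_zc_orderOf P.nilB hr hrd
  have hle : B ≤ Subgroup.centralizer ({y} : Set G) := fun b hb =>
    Subgroup.mem_centralizer_singleton_iff.mpr (zc_commute hy hb)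
  have hd : (Subgroup.centralizer ({y} : Set G)).index ∣ p ^ k := by
    refine (Subgroup.index_dvd_of_le hle).trans (dvd_of_eq ?_)
    have := B.card_mul_index
    rw [← P.card_mul, mul_comm (Nat.card A)] at this
    rw [Nat.eq_of_mul_eq_mul_left Nat.card_pos this, hk]
  obtain ⟨j, -, hj⟩ := (Nat.dvd_prime_pow hp).mp hd
  haveI := S.simple
  have hprime := CharApp.prime_card_of_simple_prime_pow_class p j hp y
    (fun e => hr.ne_one (by rw [← hyr, e, orderOf_one])) hj
  haveI := Fact.mk hprime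
  haveI : IsCyclic G := isCyclic_of_prime_card (p := Nat.card G) rfl
  letI : CommGroup G := IsCyclic.commGroup
  exact S.nonsolv inferInstance

/-- A proper subgroup above `A` contains no nontrivial normal subgroup of `B`. -/
theorem Cex.false_of_le_proper (S : Cex G) (P : NPair A B) {M Y : Subgroup G} (hAM : A ≤ M)
    (hM : M ≠ ⊤) (hYM : Y ≤ M) (hYn : B ≤ Subgroup.normalizer (Y : Set G)) (hY : Y ≠ ⊥) : False := by
  have hle : Subgroup.normalClosure (Y : Set G) ≤ M := by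
    refine (Subgroup.closure_le _).mpr fun x hx => ?_
    obtain ⟨y, hy, hconj⟩ := Group.mem_conjugatesOfSet_iff.mp hx
    obtain ⟨c, rfl⟩ := isConj_iff.mp hconj
    obtain ⟨a, ha, b, hb, rfl⟩ := P.mul c
    rw [show a * b * y * (a * b)⁻¹ = a * (b * y * b⁻¹) * a⁻¹ by group]
    exact mul_mem (mul_mem (hAM ha) (hYM ((Subgroup.mem_normalizer_iff.mp (hYn hb) y).mp hy)))
      (inv_mem (hAM ha))
  rcases S.simple.eq_bot_or_eq_top_of_normal _ (Subgroup.normalClosure_normal (s := (Y : Set G))) with h | h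
  · exact hY (le_bot_iff.mp (h ▸ Subgroup.le_normalClosure))
  · exact hM (top_le_iff.mp (h ▸ hle))

theorem subgroupOf_normal {H K : Subgroup G} (h : K ≤ Subgroup.normalizer (H : Set G)) :
    (H.subgroupOf K).Normal :=
  ⟨fun x hx k => by
    rw [Subgroup.mem_subgroupOf] at hx ⊢
    exact (Subgroup.mem_normalizer_iff.mp (h k.2) _).mp hx⟩

/-- The normaliser of the join of normal subgroups of `A` and `B`: a solvable factorised subgroup. -/
theorem Cex.normalizer_sup (S : Cex G) (P : NPair A B) {X Y : Subgroup G} (hXA : X ≤ A)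
    (hXn : A ≤ Subgroup.normalizer (X : Set G)) (hX : X ≠ ⊥) (hYB : Y ≤ B)
    (hYn : B ≤ Subgroup.normalizer (Y : Set G)) (htop : X ⊔ Y ≠ ⊤) :
    ∃ L : Subgroup G, L ≠ ⊤ ∧ Nontrivial L ∧ Group.IsSolvable L ∧ X ≤ L ∧ Y ≤ L ∧
      (∀ x ∈ L, ∃ a ∈ A ⊓ L, ∃ b ∈ B ⊓ L, x = a * b) := by
  have hne : X ⊔ Y ≠ ⊥ := fun e => hX (le_bot_iff.mp (e ▸ le_sup_left))
  set L := Subgroup.normalizer ((X ⊔ Y : Subgroup G) : Set G) with hL
  have hfac : ∀ x ∈ L, ∃ a ∈ A ⊓ L, ∃ b ∈ B ⊓ L, x = a * b := fun x hx => by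
    obtain ⟨a, ha, b, hb, e⟩ := Cfsg.Agent.S0562.result A B X Y P.mul hXA (subgroupOf_normal hXn)
      hYB (subgroupOf_normal hYn) x hx
    exact ⟨a, ⟨ha.2, ha.1⟩, b, ⟨hb.2, hb.1⟩, e⟩
  have hXL : X ≤ L := le_sup_left.trans Subgroup.le_normalizer
  have hLtop : L ≠ ⊤ := S.normalizer_ne_top hne htop
  refine ⟨L, hLtop, ?_, S.ih A B L P hLtop hfac, hXL, le_sup_right.trans Subgroup.le_normalizer, hfac⟩
  exact (Subgroup.nontrivial_iff_ne_bot L).mpr fun e => hX (le_bot_iff.mp (e ▸ hXL))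

theorem exists_coreIn_ne_bot (L : Subgroup G) [Group.IsSolvable L] [Nontrivial L] :
    ∃ r : ℕ, r.Prime ∧ coreIn r L ≠ ⊥ := by
  obtain ⟨r, hr, M, hMn, hM, hMp⟩ := Solvable.exists_normal_pGroup_ne_bot L
  refine ⟨r, hr, fun e => hM ?_⟩
  rw [coreIn, Subgroup.map_eq_bot_iff_of_injective _ L.subtype_injective] at e
  exact le_bot_iff.mp (e ▸ Cores.le_pCore hMn hMp)

theorem not_dvd_right (P : NPair A B) {r : ℕ} (hr : r.Prime) (h : r ∣ Nat.card A) :
    ¬ r ∣ Nat.card B := fun h' => hr.ne_one (Nat.eq_one_of_dvd_coprimes P.cop h h')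

/-- An `r`-core of a factorised subgroup, with `r` dividing `|A|`, lies in `A`. -/
theorem coreIn_le_left (P : NPair A B) {L : Subgroup G}
    (hfac : ∀ x ∈ L, ∃ a ∈ A ⊓ L, ∃ b ∈ B ⊓ L, x = a * b) {r : ℕ} (hr : r.Prime)
    (hrd : r ∣ Nat.card A) : coreIn r L ≤ A := by
  haveI := Fact.mk hr
  obtain ⟨n, hn⟩ := IsPGroup.iff_card.mp (isPGroup_coreIn r L)
  refine le_left_of_coprime hfac (coreIn_le r L) P.cop
    (inf_le_right.trans (le_normalizer_coreIn r L)) ?_
  rw [hn]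
  exact ((Nat.Prime.coprime_iff_not_dvd hr).mpr (not_dvd_right P hr hrd)).pow_left n

/-- An element of `A` of order prime to `r` centralises the `r`-subgroups of `A`. -/
theorem centralizes_pGroup (hA : Group.IsNilpotent A) {r : ℕ} (hr : r.Prime) {V : Subgroup G}
    (hV : IsPGroup r V) (hVA : V ≤ A) {x : G} (hx : x ∈ A) (hxr : (orderOf x).Coprime r)
    {v : G} (hv : v ∈ V) : v * x = x * v := by
  haveI := Fact.mk hr
  obtain ⟨n, hn⟩ := IsPGroup.iff_orderOf.mp hV ⟨v, hv⟩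
  rw [Subgroup.orderOf_mk] at hn
  exact (commute_of_mem hA hx (hVA hv) (hn ▸ hxr.pow_right n)).symm

theorem mem_normalizer_of_centralizes {V : Subgroup G} {x : G} (h : ∀ v ∈ V, v * x = x * v) :
    x ∈ Subgroup.normalizer (V : Set G) :=
  Subgroup.centralizer_le_normalizer _ (Subgroup.mem_centralizer_iff.mpr h)

/-- If `X = K` contains every element of `A` of order prime to `p`, then the cores `O_r`, `r ≠ p`,
`r ∣ |A|`, of the normaliser are trivial. -/
theorem Cex.coreIn_eq_bot (S : Cex G) (P : NPair A B) {L K Y : Subgroup G}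
    (hfac : ∀ x ∈ L, ∃ a ∈ A ⊓ L, ∃ b ∈ B ⊓ L, x = a * b) (hKL : K ≤ L) (hYL : Y ≤ L)
    (hYn : B ≤ Subgroup.normalizer (Y : Set G)) (hY : Y ≠ ⊥) (hLtop : L ≠ ⊤) {p : ℕ} (hp : p.Prime)
    (hKmem : ∀ x ∈ A, (orderOf x).Coprime p → x ∈ K) {r : ℕ} (hr : r.Prime) (hne : r ≠ p)
    (hrd : r ∣ Nat.card A) : coreIn r L = ⊥ := by
  by_contra hV
  haveI := Fact.mk hr
  obtain ⟨Q, K', hQA, hK'A, hQ, hK', -, -, hs, -, -, -, -⟩ := exists_pPart r A P.nilA
  have hAN : A ≤ Subgroup.normalizer (coreIn r L : Set G) := by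
    rw [← hs]
    refine sup_le (fun q hq => le_normalizer_coreIn r L (hKL (hKmem q (hQA hq) ?_))) fun k hk => ?_
    · obtain ⟨i, hi⟩ := IsPGroup.iff_orderOf.mp hQ ⟨q, hq⟩
      rw [Subgroup.orderOf_mk] at hi
      rw [hi]
      exact ((Nat.coprime_primes hr hp).mpr hne).pow_left i
    · exact mem_normalizer_of_centralizes fun v hv => centralizes_pGroup P.nilA hr
        (isPGroup_coreIn r L) (coreIn_le_left P hfac hr hrd) (hK'A hk)
        (hK'.coprime_dvd_left (Subgroup.orderOf_dvd_natCard _ hk)) hv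
  exact S.false_of_le_proper P hAN
    (S.normalizer_ne_top hV fun e => hLtop (top_le_iff.mp (e ▸ coreIn_le r L)))
    (hYL.trans (le_normalizer_coreIn r L)) hYn hY

/-- Two elements commuting modulo a normal solvable subgroup of coprime order commute after
conjugating one of them. -/
theorem exists_conj_commute {L : Type*} [Group L] [Finite L] (N : Subgroup L) [N.Normal]
    [Group.IsSolvable N] {x y : L} (hx : (orderOf x).Coprime (Nat.card N))
    (hy : (orderOf y).Coprime (Nat.card N)) (h : ⁅x, y⁆ ∈ N) :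
    ∃ n ∈ N, n * x * n⁻¹ * y = y * (n * x * n⁻¹) := by
  -- an element congruent to the conjugate of a coprime element is conjugate to it
  have key : ∀ a s : L, (orderOf a).Coprime (Nat.card N) → (orderOf s).Coprime (Nat.card N) →
      a⁻¹ * s ∈ N → ∃ n ∈ N, n * a * n⁻¹ = s := by
    intro a s ha hs has
    have hsup : Subgroup.zpowers a ⊔ N = Subgroup.zpowers s ⊔ N := by
      refine le_antisymm (sup_le (Subgroup.zpowers_le.mpr ?_) le_sup_right)
        (sup_le (Subgroup.zpowers_le.mpr ?_) le_sup_right)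
      · rw [show a = s * (a⁻¹ * s)⁻¹ by group]
        exact mul_mem (Subgroup.mem_sup_left (Subgroup.mem_zpowers s))
          (Subgroup.mem_sup_right (inv_mem has))
      · rw [show s = a * (a⁻¹ * s) by group]
        exact mul_mem (Subgroup.mem_sup_left (Subgroup.mem_zpowers a)) (Subgroup.mem_sup_right has)
    obtain ⟨n, hn, hc⟩ := Solvable.exists_conj_of_sup_eq (Or.inl ‹_›) hsup
      (by rwa [Nat.card_zpowers]) (by rwa [Nat.card_zpowers])
    have hmem : n⁻¹ * s * n ∈ Subgroup.zpowers a :=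
      (mem_conj_iff _ _ _).mp (hc.symm ▸ Subgroup.mem_zpowers s)
    refine ⟨n, hn, ?_⟩
    have h1 : a⁻¹ * (n⁻¹ * s * n) ∈ N := by
      rw [show a⁻¹ * (n⁻¹ * s * n) = (a⁻¹ * n⁻¹ * a) * (a⁻¹ * s) * n by group]
      refine mul_mem (mul_mem ?_ has) hn
      simpa using (inferInstance : N.Normal).conj_mem _ (inv_mem hn) a⁻¹
    have h2 := eq_one_of_coprime_card (A := Subgroup.zpowers a) (by rwa [Nat.card_zpowers])
      (mul_mem (inv_mem (Subgroup.mem_zpowers a)) hmem) h1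
    rw [inv_mul_eq_one.mp h2]
    group
  -- a conjugate `y'` of `y` normalised to centralise `x`
  have hyx : (orderOf (y * x * y⁻¹)).Coprime (Nat.card N) := by
    rw [← MulAut.conj_apply, (MulAut.conj y).orderOf_eq]; exact hx
  obtain ⟨n, hn, hnx⟩ := key x (y * x * y⁻¹) hx hyx (by
    rw [show x⁻¹ * (y * x * y⁻¹) = x⁻¹ * ⁅x, y⁆⁻¹ * x by rw [commutatorElement_def]; group]
    simpa using (inferInstance : N.Normal).conj_mem _ (inv_mem h) x⁻¹)
  set y' := n⁻¹ * y with hy'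
  have hcomm : y' * x = x * y' := by
    have h1 := congrArg (fun t => n⁻¹ * t * y) hnx.symm
    simp only [hy'] at h1 ⊢
    simpa [mul_assoc] using h1
  obtain ⟨m, hm1, hm2⟩ := Nat.chineseRemainder hy.symm 0 1
  set s := y' ^ m
  have hsN : y⁻¹ * s ∈ N := by
    have e : ((y' : L) : L ⧸ N) = (y : L ⧸ N) := by
      rw [hy', QuotientGroup.eq]
      rw [mul_inv_rev, inv_inv, mul_assoc]
      simpa [mul_assoc] using (inferInstance : N.Normal).conj_mem _ hn y⁻¹
    have hord : orderOf ((y : L) : L ⧸ N) ∣ orderOf y := orderOf_map_dvd (QuotientGroup.mk' N) y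
    rw [← QuotientGroup.eq, QuotientGroup.mk_pow, e]
    conv_lhs => rw [← pow_one ((y : L) : L ⧸ N)]
    rw [pow_eq_pow_iff_modEq]
    exact (hm2.of_dvd hord).symm
  have hs : (orderOf s).Coprime (Nat.card N) := by
    refine hy.coprime_dvd_left (orderOf_dvd_of_pow_eq_one ?_)
    have hmem : y' ^ orderOf y ∈ N := by
      rw [← QuotientGroup.eq_one_iff, QuotientGroup.mk_pow]
      have e : ((y' : L) : L ⧸ N) = (y : L ⧸ N) := by
        rw [hy', QuotientGroup.eq, mul_inv_rev, inv_inv, mul_assoc]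
        simpa [mul_assoc] using (inferInstance : N.Normal).conj_mem _ hn y⁻¹
      rw [e, ← QuotientGroup.mk_pow, pow_orderOf_eq_one]; rfl
    obtain ⟨c, hc⟩ := Nat.modEq_zero_iff_dvd.mp hm1
    rw [← pow_mul, mul_comm m, pow_mul, hc, pow_mul,
      orderOf_dvd_iff_pow_eq_one.mp (Subgroup.orderOf_dvd_natCard N hmem), one_pow]
  obtain ⟨k, hk, hks⟩ := key y s hy hs hsN
  refine ⟨k⁻¹, inv_mem hk, ?_⟩
  have h1 : s * x = x * s := (Commute.pow_left (show Commute y' x from hcomm) m).eq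
  rw [← hks] at h1
  have h2 := congrArg (fun t => k⁻¹ * t * k) h1.symm
  simpa [mul_assoc] using h2

/-- The `p'`-part of `A` and the `q'`-part of `B` generate `G`. -/
theorem Cex.pPrime_sup_pPrime_eq_top (S : Cex G) (P : NPair A B) {p q : ℕ} (hp : p.Prime)
    (hq : q.Prime) (hpA : p ∣ Nat.card A) (hqB : q ∣ Nat.card B) {K K' : Subgroup G} (hKA : K ≤ A)
    (hKn : A ≤ Subgroup.normalizer (K : Set G)) (hKp : (Nat.card K).Coprime p)
    (hKmem : ∀ x ∈ A, (orderOf x).Coprime p → x ∈ K) (hK'B : K' ≤ B)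
    (hK'n : B ≤ Subgroup.normalizer (K' : Set G)) (hK'q : (Nat.card K').Coprime q)
    (hK'mem : ∀ x ∈ B, (orderOf x).Coprime q → x ∈ K') : K ⊔ K' = ⊤ := by
  by_contra htop
  obtain ⟨r, hr, hrp, hrA⟩ := S.exists_prime_ne P p hp
  obtain ⟨s, hs, hsq, hsB⟩ := S.exists_prime_ne P.symm q hq
  obtain ⟨z, hz, hzr⟩ := exists_zc_orderOf P.nilA hr hrA
  obtain ⟨y, hy, hys⟩ := exists_zc_orderOf P.nilB hs hsB
  have hzK : z ∈ K := hKmem z (zc_le A hz) (by rw [hzr]; exact (Nat.coprime_primes hr hp).mpr hrp)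
  have hyK : y ∈ K' := hK'mem y (zc_le B hy) (by rw [hys]; exact (Nat.coprime_primes hs hq).mpr hsq)
  have hz1 : z ≠ 1 := fun e => hr.ne_one (by rw [← hzr, e, orderOf_one])
  have hy1 : y ≠ 1 := fun e => hs.ne_one (by rw [← hys, e, orderOf_one])
  have hKne : K ≠ ⊥ := fun e => hz1 (Subgroup.mem_bot.mp (e ▸ hzK))
  have hK'ne : K' ≠ ⊥ := fun e => hy1 (Subgroup.mem_bot.mp (e ▸ hyK))
  obtain ⟨L, hLtop, -, hLs, hKL, hK'L, hfac⟩ := S.normalizer_sup P hKA hKn hKne hK'B hK'n htop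
  haveI := hLs
  have hfac' : ∀ x ∈ L, ∃ b ∈ B ⊓ L, ∃ a ∈ A ⊓ L, x = b * a := fun x hx => by
    obtain ⟨a, ha, b, hb, e⟩ := hfac x⁻¹ (inv_mem hx)
    exact ⟨b⁻¹, inv_mem hb, a⁻¹, inv_mem ha, by rw [← mul_inv_rev, ← e, inv_inv]⟩
  set F := Cfsg.fittingSubgroup L with hF
  have hother : ∀ t : ℕ, t.Prime → t ≠ p → t ≠ q → coreIn t L = ⊥ := by
    intro t ht htp htq
    haveI := Fact.mk ht
    by_cases hA' : t ∣ Nat.card A
    · exact S.coreIn_eq_bot P hfac hKL hK'L hK'n hK'ne hLtop hp hKmem ht htp hA'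
    by_cases hB' : t ∣ Nat.card B
    · exact S.coreIn_eq_bot P.symm hfac' hK'L hKL hKn hKne hLtop hq hK'mem ht htq hB'
    exact coreIn_eq_bot_of_not_dvd fun h => (ht.dvd_mul.mp (P.card_mul ▸ h)).elim hA' hB'
  have hpAle : coreIn p L ≤ A := coreIn_le_left P hfac hp hpA
  have hqBle : coreIn q L ≤ B := coreIn_le_left P.symm hfac' hq hqB
  -- the commutator of `z` and `y` lies in the Fitting subgroup
  have hzp : ∀ v ∈ coreIn p L, v * z = z * v := fun v hv => zc_commute hz (hpAle hv)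
  have hyq : ∀ v ∈ coreIn q L, v * y = y * v := fun v hv => zc_commute hy (hqBle hv)
  have hmemC : ∀ {t : ℕ} {g h : G}, g ∈ L → h ∈ L → (∀ v ∈ coreIn t L, v * g = g * v) →
      ∀ v ∈ coreIn t L, v * (h * g * h⁻¹) = h * g * h⁻¹ * v := by
    intro t g h hg hh hc v hv
    have h1 := hc _ ((Subgroup.mem_normalizer_iff.mp (le_normalizer_coreIn t L (inv_mem hh)) v).mp hv)
    have h2 := congrArg (fun u => h * u * h⁻¹) h1
    simpa [mul_assoc] using h2
  have hcF : ⁅z, y⁆ ∈ F.map L.subtype := by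
    have hzL := hKL hzK
    have hyL := hK'L hyK
    refine centralizer_map_fitting_le ?_ fun t ht v hv => ?_
    · rw [commutatorElement_def]
      exact mul_mem (mul_mem (mul_mem hzL hyL) (inv_mem hzL)) (inv_mem hyL)
    · by_cases htp : t = p
      · subst htp
        have hzi : ∀ w ∈ coreIn t L, w * z⁻¹ = z⁻¹ * w := fun w hw =>
          (Commute.inv_right (show Commute w z from hzp w hw)).eq
        have h1 := hmemC (inv_mem hzL) hyL hzi v hv
        have h2 : Commute v ⁅z, y⁆ := by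
          rw [show ⁅z, y⁆ = z * (y * z⁻¹ * y⁻¹) by rw [commutatorElement_def]; group]
          exact Commute.mul_right (hzp v hv) h1
        exact h2.eq
      by_cases htq : t = q
      · subst htq
        have h1 := hmemC hyL hzL hyq v hv
        have h2 : Commute v ⁅z, y⁆ := by
          rw [show ⁅z, y⁆ = (z * y * z⁻¹) * y⁻¹ by rw [commutatorElement_def]]
          exact Commute.mul_right h1 (Commute.inv_right (hyq v hv))
        exact h2.eq
      rw [hother t ht htp htq, Subgroup.mem_bot] at hv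
      rw [hv, one_mul, mul_one]
  -- orders
  have hFdvd : Nat.card F ∣ Nat.card (coreIn p L) * Nat.card (coreIn q L) := by
    have hperm : Permutes (coreIn p L) (coreIn q L) := permutes_of_coe_eq
      (Subgroup.coe_mul_of_left_le_normalizer_right _ _
        ((coreIn_le p L).trans (le_normalizer_coreIn q L)))
    rw [← hperm.card_sup, ← Subgroup.card_map_of_injective (K := F) L.subtype_injective]
    refine Dvd.dvd.mul_right (Subgroup.card_dvd_of_le (map_fitting_le fun t ht => ?_)) _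
    by_cases htp : t = p
    · exact htp ▸ le_sup_left
    by_cases htq : t = q
    · exact htq ▸ le_sup_right
    rw [hother t ht htp htq]; exact bot_le
  haveI := Fact.mk hp
  haveI := Fact.mk hq
  obtain ⟨i, hi⟩ := IsPGroup.iff_card.mp (isPGroup_coreIn p L)
  obtain ⟨j, hj⟩ := IsPGroup.iff_card.mp (isPGroup_coreIn q L)
  rw [hi, hj] at hFdvd
  have hord : ∀ {t : ℕ}, t.Prime → t ≠ p → t ≠ q → t.Coprime (Nat.card F) := fun {t} ht h1 h2 =>
    Nat.Coprime.coprime_dvd_right hFdvd (Nat.Coprime.mul_right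
      (((Nat.coprime_primes ht hp).mpr h1).pow_right i) (((Nat.coprime_primes ht hq).mpr h2).pow_right j))
  have hrq : r ≠ q := fun e => not_dvd_right P hr hrA (e ▸ hqB)
  have hsp : s ≠ p := fun e => not_dvd_right P hp hpA (e ▸ hsB)
  obtain ⟨f, -, hf⟩ := exists_conj_commute F (x := (⟨z, hKL hzK⟩ : L)) (y := ⟨y, hK'L hyK⟩)
    (by rw [Subgroup.orderOf_mk, hzr]; exact hord hr hrp hrq)
    (by rw [Subgroup.orderOf_mk, hys]; exact hord hs hsp hsq)
    (by
      obtain ⟨w, hw, e⟩ := hcF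
      have : w = ⁅(⟨z, hKL hzK⟩ : L), ⟨y, hK'L hyK⟩⁆ := Subtype.ext e
      exact this ▸ hw)
  -- write the conjugating element as `b * a`
  have hf' : (f : G) * z * (f : G)⁻¹ * y = y * ((f : G) * z * (f : G)⁻¹) := congrArg Subtype.val hf
  obtain ⟨b, hb, a, ha, e⟩ := P.symm.mul (f : G)
  have hfz : (f : G) * z * (f : G)⁻¹ = b * z * b⁻¹ := by
    rw [e, show b * a * z * (b * a)⁻¹ = b * (a * z * a⁻¹) * b⁻¹ by group, zc_commute hz ha,
      mul_inv_cancel_right]
  rw [hfz] at hf'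
  have hyb : b⁻¹ * y * b = y := by rw [mul_assoc, ← zc_commute hy hb, inv_mul_cancel_left]
  have hzy : z * y = y * z := by
    have h1 := congrArg (fun t => b⁻¹ * t * b) hf'
    conv_lhs => rw [← hyb]
    conv_rhs => rw [← hyb]
    simpa [mul_assoc] using h1
  refine S.false_of_le_proper P.symm (M := Subgroup.centralizer ({y} : Set G))
    (fun c hc => Subgroup.mem_centralizer_singleton_iff.mpr (zc_commute hy hc))
    (S.centralizer_ne_top hy1)
    (Subgroup.zpowers_le.mpr (Subgroup.mem_centralizer_singleton_iff.mpr hzy))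
    (fun c hc => ?_) (Subgroup.zpowers_ne_bot.mpr hz1)
  refine mem_normalizer_of_centralizes fun v hv => ?_
  obtain ⟨k, rfl⟩ := Subgroup.mem_zpowers_iff.mp hv
  exact (Commute.zpow_left (show Commute z c from (zc_commute hz hc).symm) k).eq

/-- The `p'`-part of `A` and a nontrivial normal subgroup of `B` generate `G`. -/
theorem Cex.pPrime_sup_eq_top (S : Cex G) (P : NPair A B) {p : ℕ} (hp : p.Prime)
    (hpA : p ∣ Nat.card A) {K Y : Subgroup G} (hKA : K ≤ A)
    (hKn : A ≤ Subgroup.normalizer (K : Set G)) (hKp : (Nat.card K).Coprime p)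
    (hKmem : ∀ x ∈ A, (orderOf x).Coprime p → x ∈ K) (hYB : Y ≤ B)
    (hYn : B ≤ Subgroup.normalizer (Y : Set G)) (hY : Y ≠ ⊥) : K ⊔ Y = ⊤ := by
  by_contra htop
  obtain ⟨r, hr, hrp, hrA⟩ := S.exists_prime_ne P p hp
  obtain ⟨z, hz, hzr⟩ := exists_zc_orderOf P.nilA hr hrA
  have hzK : z ∈ K := hKmem z (zc_le A hz) (by rw [hzr]; exact (Nat.coprime_primes hr hp).mpr hrp)
  have hz1 : z ≠ 1 := fun e => hr.ne_one (by rw [← hzr, e, orderOf_one])
  have hKne : K ≠ ⊥ := fun e => hz1 (Subgroup.mem_bot.mp (e ▸ hzK))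
  obtain ⟨L, hLtop, -, hLs, hKL, hYL, hfac⟩ := S.normalizer_sup P hKA hKn hKne hYB hYn htop
  haveI := hLs
  -- some prime of `B` has a nontrivial core
  obtain ⟨q, hq, hqB, hqV⟩ : ∃ q : ℕ, q.Prime ∧ q ∣ Nat.card B ∧ coreIn q L ≠ ⊥ := by
    by_contra hno
    push Not at hno
    have hall : ∀ t : ℕ, t.Prime → coreIn t L ≤ coreIn p L := by
      intro t ht
      haveI := Fact.mk ht
      by_cases htp : t = p
      · exact htp ▸ le_rfl
      by_cases hA' : t ∣ Nat.card A
      · rw [S.coreIn_eq_bot P hfac hKL hYL hYn hY hLtop hp hKmem ht htp hA']; exact bot_le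
      by_cases hB' : t ∣ Nat.card B
      · rw [hno t ht hB']; exact bot_le
      rw [coreIn_eq_bot_of_not_dvd fun h => (ht.dvd_mul.mp (P.card_mul ▸ h)).elim hA' hB']
      exact bot_le
    haveI := Fact.mk hp
    have hzc : z ∈ coreIn p L := by
      refine map_fitting_le hall (centralizer_map_fitting_le (hKL hzK) fun t ht v hv => ?_)
      exact centralizes_pGroup P.nilA hp (isPGroup_coreIn p L) (coreIn_le_left P hfac hp hpA)
        (zc_le A hz) (by rw [hzr]; exact (Nat.coprime_primes hr hp).mpr hrp) (hall t ht hv)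
    obtain ⟨i, hi⟩ := IsPGroup.iff_orderOf.mp (isPGroup_coreIn p L) ⟨z, hzc⟩
    rw [Subgroup.orderOf_mk, hzr] at hi
    exact hrp ((Nat.prime_dvd_prime_iff_eq hr hp).mp (hr.dvd_of_dvd_pow (dvd_of_eq hi)))
  haveI := Fact.mk hq
  obtain ⟨Q, K', -, hK'B, -, hK'q, -, hK'n, -, -, -, -, hK'mem⟩ := exists_pPart q B P.nilB
  have hfac' : ∀ x ∈ L, ∃ b ∈ B ⊓ L, ∃ a ∈ A ⊓ L, x = b * a := fun x hx => by
    obtain ⟨a, ha, b, hb, e⟩ := hfac x⁻¹ (inv_mem hx)
    exact ⟨b⁻¹, inv_mem hb, a⁻¹, inv_mem ha, by rw [← mul_inv_rev, ← e, inv_inv]⟩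
  refine S.normalizer_ne_top hqV (fun e => hLtop (top_le_iff.mp (e ▸ coreIn_le q L))) ?_
  rw [eq_top_iff, ← S.pPrime_sup_pPrime_eq_top P hp hq hpA hqB hKA hKn hKp hKmem hK'B hK'n hK'q hK'mem]
  refine sup_le (hKL.trans (le_normalizer_coreIn q L)) fun k hk => ?_
  exact mem_normalizer_of_centralizes fun v hv => centralizes_pGroup P.nilB hq
    (isPGroup_coreIn q L) (coreIn_le_left P.symm hfac' hq hqB) (hK'B hk)
    (hK'q.coprime_dvd_left (Subgroup.orderOf_dvd_natCard _ hk)) hv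

/-- **Pair lemma**: nontrivial normal subgroups of `A` and of `B` generate `G`. -/
theorem Cex.sup_eq_top (S : Cex G) (P : NPair A B) {X Y : Subgroup G} (hXA : X ≤ A)
    (hXn : A ≤ Subgroup.normalizer (X : Set G)) (hX : X ≠ ⊥) (hYB : Y ≤ B)
    (hYn : B ≤ Subgroup.normalizer (Y : Set G)) (hY : Y ≠ ⊥) : X ⊔ Y = ⊤ := by
  by_contra htop
  obtain ⟨L, hLtop, hLnt, hLs, hXL, hYL, hfac⟩ := S.normalizer_sup P hXA hXn hX hYB hYn htop
  haveI := hLs
  haveI := hLnt
  obtain ⟨r, hr, hV⟩ := exists_coreIn_ne_bot L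
  haveI := Fact.mk hr
  have hNV := S.normalizer_ne_top hV fun e => hLtop (top_le_iff.mp (e ▸ coreIn_le r L))
  have hfac' : ∀ x ∈ L, ∃ b ∈ B ⊓ L, ∃ a ∈ A ⊓ L, x = b * a := fun x hx => by
    obtain ⟨a, ha, b, hb, e⟩ := hfac x⁻¹ (inv_mem hx)
    exact ⟨b⁻¹, inv_mem hb, a⁻¹, inv_mem ha, by rw [← mul_inv_rev, ← e, inv_inv]⟩
  by_cases hA' : r ∣ Nat.card A
  · obtain ⟨Q, K, -, hKA, -, hKr, -, hKn, -, -, -, -, hKmem⟩ := exists_pPart r A P.nilA
    refine hNV (eq_top_iff.mpr ?_)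
    rw [← S.pPrime_sup_eq_top P hr hA' hKA hKn hKr hKmem hYB hYn hY]
    refine sup_le (fun k hk => mem_normalizer_of_centralizes fun v hv => ?_)
      (hYL.trans (le_normalizer_coreIn r L))
    exact centralizes_pGroup P.nilA hr (isPGroup_coreIn r L) (coreIn_le_left P hfac hr hA') (hKA hk)
      (hKr.coprime_dvd_left (Subgroup.orderOf_dvd_natCard _ hk)) hv
  by_cases hB' : r ∣ Nat.card B
  · obtain ⟨Q, K, -, hKB, -, hKr, -, hKn, -, -, -, -, hKmem⟩ := exists_pPart r B P.nilB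
    refine hNV (eq_top_iff.mpr ?_)
    rw [← S.pPrime_sup_eq_top P.symm hr hB' hKB hKn hKr hKmem hXA hXn hX]
    refine sup_le (fun k hk => mem_normalizer_of_centralizes fun v hv => ?_)
      (hXL.trans (le_normalizer_coreIn r L))
    exact centralizes_pGroup P.nilB hr (isPGroup_coreIn r L) (coreIn_le_left P.symm hfac' hr hB')
      (hKB hk) (hKr.coprime_dvd_left (Subgroup.orderOf_dvd_natCard _ hk)) hv
  exact hV (coreIn_eq_bot_of_not_dvd fun h => (hr.dvd_mul.mp (P.card_mul ▸ h)).elim hA' hB')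

end Cfsg.Agent.Products
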