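/-
The simple minimal counterexample to Wielandt's theorem, second part: the centres of `A` and `B`
are TI, and centralisers in `B` of the elements of `A ∩ N(B)`.
-/
import Cfsg.Agent.Lib.Products.Pair

set_option autoImplicit false

open scoped Pointwise commutatorElement

namespace Cfsg.Agent.Products

open Solvable (mem_conj_iff card_conj mem_normalizer_iff_conj)

theorem card_le_mul_of_fiber {α β : Type*} [Finite α] [Finite β] (f : α → β) (n : ℕ)
    (h : ∀ b, Nat.card {a // f a = b} ≤ n) : Nat.card α ≤ n * Nat.card β := by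
  haveI := Fintype.ofFinite β
  rw [← Nat.card_congr (Equiv.sigmaFiberEquiv f), Nat.card_sigma, Nat.card_eq_fintype_card,
    mul_comm, ← smul_eq_mul, ← Finset.card_univ]
  exact Finset.sum_le_card_nsmul _ _ _ fun b _ => h b

variable {G : Type*} [Group G]

theorem mem_centralizer_of_conj_eq {e a b : G} (h : a * e * a⁻¹ = b * e * b⁻¹) :
    a⁻¹ * b ∈ Subgroup.centralizer ({e} : Set G) := by
  refine Subgroup.mem_centralizer_singleton_iff.mpr ?_
  have h1 := congrArg (fun t => a⁻¹ * t * b) h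
  simpa [mul_assoc] using h1.symm

/-- Orbit bound for conjugation. -/
theorem card_le_centralizer_mul [Finite G] (H : Subgroup G) (e : G) (s : Set G)
    (h : ∀ x ∈ H, x * e * x⁻¹ ∈ s) :
    Nat.card H ≤ Nat.card (H ⊓ Subgroup.centralizer ({e} : Set G) : Subgroup G) * Nat.card s := by
  refine card_le_mul_of_fiber (fun x : H => (⟨(x : G) * e * (x : G)⁻¹, h x x.2⟩ : s)) _ fun b => ?_
  rcases isEmpty_or_nonempty {a : H // (⟨(a : G) * e * (a : G)⁻¹, h a a.2⟩ : s) = b} with hE | ⟨⟨a₀, h₀⟩⟩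
  · rw [Nat.card_eq_zero.mpr (Or.inl hE)]; exact Nat.zero_le _
  refine Nat.card_le_card_of_injective (fun a => ⟨(a₀ : G)⁻¹ * (a.1 : G),
    H.mul_mem (H.inv_mem a₀.2) a.1.2, mem_centralizer_of_conj_eq ?_⟩) ?_
  · exact congrArg Subtype.val (h₀.trans a.2.symm)
  · intro a a' haa
    exact Subtype.ext (Subtype.ext (mul_left_cancel (congrArg Subtype.val haa)))

/-- Conjugates of `e` in two factors `U`, `K` of `G = UK`, against those in `U ∩ K`. -/
theorem card_centralizer_mul_le [Finite G] (U K : Subgroup G) (e : G)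
    (hUK : ∀ g : G, ∃ u ∈ U, ∃ k ∈ K, g = u * k) :
    Nat.card (Subgroup.centralizer ({e} : Set G)) * Nat.card {x : G // IsConj e x ∧ x ∈ U} *
      Nat.card {x : G // IsConj e x ∧ x ∈ K} ≤
      Nat.card {x : G // IsConj e x ∧ x ∈ U ⊓ K} * Nat.card G := by
  set C := Subgroup.centralizer ({e} : Set G) with hC
  let T : Subgroup G → Type _ := fun H => {g : G // g⁻¹ * e * g ∈ H}
  have hlow : ∀ H : Subgroup G,
      Nat.card C * Nat.card {x : G // IsConj e x ∧ x ∈ H} ≤ Nat.card (T H) := by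
    intro H
    have hr : ∀ x : {x : G // IsConj e x ∧ x ∈ H}, ∃ r : G, r⁻¹ * e * r = x.1 := fun x => by
      obtain ⟨c, hc⟩ := isConj_iff.mp x.2.1
      exact ⟨c⁻¹, by rw [inv_inv, hc]⟩
    choose r hr using hr
    have hkey : ∀ (c : C) (x : {x : G // IsConj e x ∧ x ∈ H}),
        ((c : G) * r x)⁻¹ * e * ((c : G) * r x) = x.1 := fun c x => by
      rw [show ((c : G) * r x)⁻¹ * e * ((c : G) * r x) = (r x)⁻¹ * ((c : G)⁻¹ * (e * c)) * r x by group,
        ← Subgroup.mem_centralizer_singleton_iff.mp c.2, inv_mul_cancel_left, hr]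
    rw [← Nat.card_prod]
    refine Nat.card_le_card_of_injective
      (fun cx : C × {x : G // IsConj e x ∧ x ∈ H} => (⟨(cx.1 : G) * r cx.2, by
        rw [hkey]; exact cx.2.2.2⟩ : T H)) ?_
    rintro ⟨c, x⟩ ⟨c', x'⟩ h
    have h' : (c : G) * r x = (c' : G) * r x' := congrArg Subtype.val h
    obtain rfl : x = x' := Subtype.ext (by rw [← hkey c x, ← hkey c' x', h'])
    exact Prod.ext (Subtype.ext (mul_right_cancel h')) rfl
  have hup : Nat.card (T (U ⊓ K)) ≤ Nat.card C * Nat.card {x : G // IsConj e x ∧ x ∈ U ⊓ K} := by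
    refine card_le_mul_of_fiber (fun g : T (U ⊓ K) =>
      (⟨g.1⁻¹ * e * g.1, isConj_iff.mpr ⟨g.1⁻¹, by rw [inv_inv]⟩, g.2⟩ :
        {x : G // IsConj e x ∧ x ∈ U ⊓ K})) _ fun b => ?_
    rcases isEmpty_or_nonempty {g : T (U ⊓ K) // (⟨g.1⁻¹ * e * g.1,
      isConj_iff.mpr ⟨g.1⁻¹, by rw [inv_inv]⟩, g.2⟩ : {x : G // IsConj e x ∧ x ∈ U ⊓ K}) = b} with
      hE | ⟨⟨g₀, h₀⟩⟩
    · rw [Nat.card_eq_zero.mpr (Or.inl hE)]; exact Nat.zero_le _
    refine Nat.card_le_card_of_injective (fun g => (⟨g.1.1 * g₀.1⁻¹, ?_⟩ : C)) ?_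
    · have h1 : g.1.1⁻¹ * e * g.1.1 = g₀.1⁻¹ * e * g₀.1 := congrArg Subtype.val (g.2.trans h₀.symm)
      have h2 := mem_centralizer_of_conj_eq (e := e) (a := g.1.1⁻¹) (b := g₀.1⁻¹)
        (by simpa using h1)
      simpa using h2
    · intro g g' hgg
      exact Subtype.ext (Subtype.ext (mul_right_cancel (congrArg Subtype.val hgg)))
  have hmid : Nat.card (T U) * Nat.card (T K) * Nat.card (U ⊓ K : Subgroup G) ≤
      Nat.card (T (U ⊓ K)) * (Nat.card U * Nat.card K) := by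
    choose fu hfu fk hfk hfe using hUK
    rw [← Nat.card_prod, ← Nat.card_prod, ← Nat.card_prod, ← Nat.card_prod]
    refine Nat.card_le_card_of_injective (fun x : (T U × T K) × (U ⊓ K : Subgroup G) =>
      ((⟨x.1.1.1 * fu (x.1.1.1⁻¹ * x.1.2.1) * x.2, ?_⟩ : T (U ⊓ K)),
        ((⟨fu (x.1.1.1⁻¹ * x.1.2.1) * x.2, U.mul_mem (hfu _) x.2.2.1⟩ : U),
         (⟨(x.2 : G)⁻¹ * fk (x.1.1.1⁻¹ * x.1.2.1), K.mul_mem (K.inv_mem x.2.2.2) (hfk _)⟩ : K)))) ?_
    · obtain ⟨⟨g₁, g₂⟩, w⟩ := x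
      simp only
      have hu := U.mul_mem (hfu (g₁.1⁻¹ * g₂.1)) w.2.1
      have hk := K.mul_mem (K.inv_mem (hfk (g₁.1⁻¹ * g₂.1))) w.2.2
      have hg : g₁.1 * fu (g₁.1⁻¹ * g₂.1) * w = g₂.1 * ((fk (g₁.1⁻¹ * g₂.1))⁻¹ * w) := by
        have := hfe (g₁.1⁻¹ * g₂.1)
        rw [show fu (g₁.1⁻¹ * g₂.1) = g₁.1⁻¹ * g₂.1 * (fk (g₁.1⁻¹ * g₂.1))⁻¹ by
          rw [eq_mul_inv_iff_mul_eq]; exact this.symm]
        group
      refine ⟨?_, ?_⟩
      · have := U.mul_mem (U.mul_mem (U.inv_mem hu) g₁.2) hu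
        simpa [mul_assoc] using this
      · rw [hg]
        have := K.mul_mem (K.mul_mem (K.inv_mem hk) g₂.2) hk
        simpa [mul_assoc] using this
    · rintro ⟨⟨g₁, g₂⟩, w⟩ ⟨⟨g₁', g₂'⟩, w'⟩ h
      simp only [Prod.mk.injEq] at h
      obtain ⟨h1, h2, h3⟩ := h
      have h1' : g₁.1 * fu (g₁.1⁻¹ * g₂.1) * (w : G) = g₁'.1 * fu (g₁'.1⁻¹ * g₂'.1) * (w' : G) :=
        congrArg Subtype.val h1
      have h2' : fu (g₁.1⁻¹ * g₂.1) * (w : G) = fu (g₁'.1⁻¹ * g₂'.1) * (w' : G) :=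
        congrArg Subtype.val h2
      have h3' : (w : G)⁻¹ * fk (g₁.1⁻¹ * g₂.1) = (w' : G)⁻¹ * fk (g₁'.1⁻¹ * g₂'.1) :=
        congrArg Subtype.val h3
      rw [mul_assoc, mul_assoc, h2'] at h1'
      have e1 : g₁.1 = g₁'.1 := mul_right_cancel h1'
      have h4 := congrArg₂ (· * ·) h2' h3'
      simp only [mul_assoc, mul_inv_cancel_left] at h4
      rw [← hfe, ← hfe, e1] at h4
      have e2 : g₂.1 = g₂'.1 := mul_left_cancel h4
      rw [e1, e2] at h2'
      exact Prod.ext (Prod.ext (Subtype.ext e1) (Subtype.ext e2)) (Subtype.ext (mul_left_cancel h2'))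
  have hUKcard : Nat.card U * Nat.card K = Nat.card G * Nat.card (U ⊓ K : Subgroup G) := by
    rw [← Coprime.card_mul_inf, show ((U : Set G) * (K : Set G)) = Set.univ from
      Set.eq_univ_of_forall fun g => by
        obtain ⟨u, hu, k, hk, he⟩ := hUK g
        exact ⟨u, hu, k, hk, he.symm⟩, Nat.card_univ]
  rw [hUKcard, ← mul_assoc] at hmid
  have h1 := (Nat.mul_le_mul (hlow U) (hlow K)).trans
    ((Nat.le_of_mul_le_mul_right hmid (Nat.card_pos (α := (U ⊓ K : Subgroup G)))).trans (Nat.mul_le_mul_right _ hup))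
  refine Nat.le_of_mul_le_mul_left ?_ (Nat.card_pos (α := C))
  calc Nat.card C * (Nat.card C * Nat.card {x : G // IsConj e x ∧ x ∈ U} *
        Nat.card {x : G // IsConj e x ∧ x ∈ K})
      = Nat.card C * Nat.card {x : G // IsConj e x ∧ x ∈ U} *
        (Nat.card C * Nat.card {x : G // IsConj e x ∧ x ∈ K}) := by ring
    _ ≤ _ := h1
    _ = _ := by ring

variable [Finite G] {A B : Subgroup G}

theorem zc_le_normalizer_zc (A : Subgroup G) : A ≤ Subgroup.normalizer (zc A : Set G) := fun _ ha =>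
  mem_normalizer_of_centralizes fun _ hv => (zc_commute hv ha).symm

theorem zpowers_normalized {B : Subgroup G} {y : G} (hy : y ∈ zc B) :
    B ≤ Subgroup.normalizer (Subgroup.zpowers y : Set G) := fun b hb =>
  mem_normalizer_of_centralizes fun v hv => by
    obtain ⟨k, rfl⟩ := Subgroup.mem_zpowers_iff.mp hv
    exact (Commute.zpow_left (show Commute y b from (zc_commute hy hb).symm) k).eq

theorem Cex.exists_zc_ne_one (S : Cex G) (P : NPair A B) : ∃ z ∈ zc A, z ≠ 1 := by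
  have hA : Nat.card A ≠ 1 := fun e => S.ne_bot P (Subgroup.card_eq_one.mp e)
  obtain ⟨r, hr, hrd⟩ := Nat.exists_prime_and_dvd hA
  obtain ⟨z, hz, hzr⟩ := exists_zc_orderOf P.nilA hr hrd
  exact ⟨z, hz, fun e => hr.ne_one (by rw [← hzr, e, orderOf_one])⟩

/-- No nontrivial subgroup of `A` is normalised by a nontrivial central element of `B`. -/
theorem Cex.false_of_normalized (S : Cex G) (P : NPair A B) {X : Subgroup G} (hXA : X ≤ A)
    (hX : X ≠ ⊥) {y : G} (hy : y ∈ zc B) (hy1 : y ≠ 1)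
    (hyN : y ∈ Subgroup.normalizer (X : Set G)) : False := by
  obtain ⟨z, hz, hz1⟩ := S.exists_zc_ne_one P
  refine S.normalizer_ne_top hX (fun e => S.ne_top P (top_le_iff.mp (e ▸ hXA))) (eq_top_iff.mpr ?_)
  rw [← S.sup_eq_top P (zc_le A) (zc_le_normalizer_zc A)
    (fun e => hz1 (Subgroup.mem_bot.mp (e ▸ hz))) (Subgroup.zpowers_le.mpr (zc_le B hy))
    (zpowers_normalized hy) (Subgroup.zpowers_ne_bot.mpr hy1)]
  exact sup_le (fun w hw => mem_normalizer_of_centralizes fun v hv => zc_commute hw (hXA hv))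
    (Subgroup.zpowers_le.mpr hyN)

/-- The centraliser of a nontrivial central element of `A` is `A`. -/
theorem Cex.mem_of_commute (S : Cex G) (P : NPair A B) {z g : G} (hz : z ∈ zc A) (hz1 : z ≠ 1)
    (h : g * z = z * g) : g ∈ A := by
  obtain ⟨a, ha, b, hb, rfl⟩ := P.mul g
  have hbz : b * z = z * b := by
    have h1 : a * (b * z) = a * (z * b) := by
      rw [← mul_assoc, h, ← mul_assoc, ← zc_commute hz ha, mul_assoc]
    exact mul_left_cancel h1
  by_cases hb1 : b = 1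
  · rwa [hb1, mul_one]
  refine (S.false_of_normalized P.symm (Subgroup.zpowers_le.mpr hb) (Subgroup.zpowers_ne_bot.mpr hb1)
    hz hz1 (mem_normalizer_of_centralizes fun v hv => ?_)).elim
  obtain ⟨k, rfl⟩ := Subgroup.mem_zpowers_iff.mp hv
  exact (Commute.zpow_left (show Commute b z from hbz) k).eq

/-- A nontrivial central element of `A` lies in no other conjugate of `A`. -/
theorem Cex.conj_eq_of_mem (S : Cex G) (P : NPair A B) {z g : G} (hz : z ∈ zc A) (hz1 : z ≠ 1)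
    (hg : z ∈ MulAut.conj g • A) : MulAut.conj g • A = A := by
  have P' : NPair (MulAut.conj g • A) (MulAut.conj g • B) := P.conj g g
  have hZ : zc (MulAut.conj g • A) ≤ A := fun w hw => S.mem_of_commute P hz hz1 (zc_commute hw hg).symm
  refine (Subgroup.eq_of_le_of_card_ge ?_ (card_conj _ _).le).symm
  -- each Sylow subgroup of `A` centralises some central element of the conjugate
  intro x hx
  have main : ∀ (t : ℕ), t.Prime → ∀ a ∈ A, (∃ i, orderOf a = t ^ i) → a ∈ MulAut.conj g • A := by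
    rintro t ht a ha ⟨i, hi⟩
    obtain ⟨r, hr, hrt, hrA⟩ := S.exists_prime_ne P' t ht
    obtain ⟨w, hw, hwr⟩ := exists_zc_orderOf P'.nilA hr hrA
    refine S.mem_of_commute P' hw (fun e => hr.ne_one (by rw [← hwr, e, orderOf_one])) ?_
    refine commute_of_mem P.nilA ha (hZ hw) ?_
    rw [hi, hwr]
    exact ((Nat.coprime_primes ht hr).mpr hrt.symm).pow_left i
  -- induction on the number of primes of the order of `x`
  induction hn : orderOf x using Nat.strong_induction_on generalizing x with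
  | _ n ih =>
    subst hn
    by_cases h1 : orderOf x = 1
    · rw [orderOf_eq_one_iff.mp h1]; exact one_mem _
    obtain ⟨t, ht, htd⟩ := Nat.exists_prime_and_dvd h1
    haveI := Fact.mk ht
    obtain ⟨Q, K, hQA, hKA, hQ, hK, -, hKn, hs, -, -, -, -⟩ := exists_pPart t A P.nilA
    rw [← hs] at hx
    have hx' : x ∈ ((Q ⊔ K : Subgroup G) : Set G) := hx
    rw [Subgroup.coe_mul_of_left_le_normalizer_right Q K (hQA.trans hKn)] at hx'
    obtain ⟨q, hq, k, hk, rfl⟩ := hx'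
    obtain ⟨i, hi⟩ := IsPGroup.iff_orderOf.mp hQ ⟨q, hq⟩
    rw [Subgroup.orderOf_mk] at hi
    have hc : Commute q k := commute_of_mem P.nilA (hQA hq) (hKA hk)
      (hi ▸ ((hK.coprime_dvd_left (Subgroup.orderOf_dvd_natCard _ hk)).symm.pow_left i))
    have hord := hc.orderOf_mul_eq_mul_orderOf_of_coprime
      (hi ▸ ((hK.coprime_dvd_left (Subgroup.orderOf_dvd_natCard _ hk)).symm.pow_left i))
    refine mul_mem (main t ht q (hQA hq) ⟨i, hi⟩) (ih (orderOf k) ?_ (hKA hk) rfl)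
    simp only at htd ⊢
    refine lt_of_le_of_ne (Nat.le_of_dvd (orderOf_pos _) ⟨orderOf q, by rw [hord, mul_comm]⟩) fun e => ?_
    exact ht.ne_one (Nat.eq_one_of_dvd_coprimes
      (hK.coprime_dvd_left (Subgroup.orderOf_dvd_natCard _ hk)) (e.symm ▸ htd) dvd_rfl)

/-- An element of `A ∩ N(B)` commutes with every element of `B ∩ N(A)`. -/
theorem commute_of_normalized (P : NPair A B) {d e : G} (he : e ∈ A)
    (heN : e ∈ Subgroup.normalizer (B : Set G)) (hd : d ∈ B)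
    (hdN : d ∈ Subgroup.normalizer (A : Set G)) : d * e = e * d := by
  have h1 : d * e * d⁻¹ * e⁻¹ ∈ A := mul_mem ((Subgroup.mem_normalizer_iff.mp hdN e).mp he) (inv_mem he)
  have h2 : d * e * d⁻¹ * e⁻¹ ∈ B := by
    rw [show d * e * d⁻¹ * e⁻¹ = d * (e * d⁻¹ * e⁻¹) by group]
    exact mul_mem hd ((Subgroup.mem_normalizer_iff.mp heN _).mp (inv_mem hd))
  have h3 := eq_one_of_coprime_card P.cop h1 h2
  rwa [mul_inv_eq_one, mul_inv_eq_iff_eq_mul] at h3

/-- The normaliser of `B` is `(A ∩ N(B)) B`. -/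
theorem exists_decomp_normalizer (P : NPair A B) {k : G}
    (hk : k ∈ Subgroup.normalizer (B : Set G)) :
    ∃ a ∈ A ⊓ Subgroup.normalizer (B : Set G), ∃ b ∈ B, k = a * b := by
  obtain ⟨a, ha, b, hb, rfl⟩ := P.mul k
  refine ⟨a, ⟨ha, ?_⟩, b, hb, rfl⟩
  have := mul_mem hk (inv_mem (Subgroup.le_normalizer hb))
  rwa [mul_inv_cancel_right] at this

/-- An element of `N(A) ∩ N(B)` killed by `|A|` lies in `A`. -/
theorem mem_of_mem_normalizers (P : NPair A B) {x : G} (hxA : x ∈ Subgroup.normalizer (A : Set G))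
    (hxB : x ∈ Subgroup.normalizer (B : Set G)) (hx : orderOf x ∣ Nat.card A) : x ∈ A := by
  obtain ⟨a, ha, b, hb, rfl⟩ := exists_decomp_normalizer P hxB
  have hbN : b ∈ Subgroup.normalizer (A : Set G) := by
    have := mul_mem (inv_mem (Subgroup.le_normalizer ha.1)) hxA
    rwa [inv_mul_cancel_left] at this
  have hc : Commute a b := (commute_of_normalized P ha.1 ha.2 hb hbN).symm
  have h1 : b ^ Nat.card A = 1 := by
    have := orderOf_dvd_iff_pow_eq_one.mp hx
    rwa [hc.mul_pow, orderOf_dvd_iff_pow_eq_one.mp (Subgroup.orderOf_dvd_natCard _ ha.1),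
      one_mul] at this
  have hb1 : b = 1 := orderOf_eq_one_iff.mp (Nat.eq_one_of_dvd_coprimes P.cop
    (orderOf_dvd_of_pow_eq_one h1) (Subgroup.orderOf_dvd_natCard _ hb))
  rw [hb1, mul_one]
  exact ha.1

/-- A nontrivial element of `A ∩ N(B)` commutes only with those elements of `B` normalising `A`. -/
theorem Cex.mem_normalizer_of_commute (S : Cex G) (P : NPair A B) {e : G} (he : e ∈ A)
    (heN : e ∈ Subgroup.normalizer (B : Set G)) (he1 : e ≠ 1) {b : G} (hb : b ∈ B)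
    (hbe : b * e = e * b) : b ∈ Subgroup.normalizer (A : Set G) := by
  set U := Subgroup.normalizer (A : Set G) with hU
  set K := Subgroup.normalizer (B : Set G) with hK
  set D := B ⊓ U with hD
  let CB : G → Subgroup G := fun x => B ⊓ Subgroup.centralizer ({x} : Set G)
  have hDle : ∀ x ∈ A, x ∈ K → D ≤ CB x := fun x hx hxK d hd =>
    ⟨hd.1, Subgroup.mem_centralizer_singleton_iff.mpr (commute_of_normalized P hx hxK hd.1 hd.2)⟩
  -- it suffices that `CB` of a conjugate with largest centraliser is inside `D`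
  obtain ⟨m, hm, hmax⟩ := Set.Finite.exists_maximalFor (fun x => Nat.card (CB x))
    {x : G | x ∈ A ∧ x ∈ K ∧ IsConj e x} (Set.toFinite _) ⟨e, he, heN, IsConj.refl e⟩
  obtain ⟨hmA, hmK, hem⟩ := hm
  suffices hsuff : CB m ≤ D by
    have h1 : Nat.card (CB e) ≤ Nat.card D := by
      refine le_trans ?_ (Subgroup.card_le_of_le hsuff)
      rcases le_total (Nat.card (CB e)) (Nat.card (CB m)) with h | h
      · exact h
      · exact hmax (j := e) ⟨he, heN, IsConj.refl e⟩ h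
    have h2 : D = CB e := Subgroup.eq_of_le_of_card_ge (hDle e he heN) h1
    exact (h2.ge ⟨hb, Subgroup.mem_centralizer_singleton_iff.mpr hbe⟩).2
  have hm1 : m ≠ 1 := by
    rintro rfl
    exact he1 (isConj_one_left.mp hem)
  set C := Subgroup.centralizer ({m} : Set G) with hCdef
  -- conjugates of `m` in `U ∩ K` lie in `A`
  have hWA : ∀ x : G, IsConj m x → x ∈ U → x ∈ K → x ∈ A := by
    intro x hx hxU hxK
    refine mem_of_mem_normalizers P hxU hxK ?_
    obtain ⟨c, rfl⟩ := isConj_iff.mp hx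
    rw [← MulAut.conj_apply, (MulAut.conj c).orderOf_eq]
    exact Subgroup.orderOf_dvd_natCard _ hmA
  have hsum := card_centralizer_mul_le U K m fun g => by
    obtain ⟨a, ha, b, hb, e'⟩ := P.mul g
    exact ⟨a, Subgroup.le_normalizer ha, b, Subgroup.le_normalizer hb, e'⟩
  -- orbit of `A`
  have hiU : Nat.card A ≤ Nat.card (A ⊓ C : Subgroup G) *
      Nat.card {x : G // IsConj m x ∧ x ∈ U} := by
    refine card_le_centralizer_mul A m {x : G | IsConj m x ∧ x ∈ U} fun a ha => ?_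
    exact ⟨isConj_iff.mpr ⟨a, rfl⟩,
      Subgroup.le_normalizer (mul_mem (mul_mem ha hmA) (inv_mem ha))⟩
  -- orbits of `B`
  have hiK : Nat.card B * Nat.card {x : G // IsConj m x ∧ x ∈ U ⊓ K} ≤
      Nat.card (CB m) * Nat.card {x : G // IsConj m x ∧ x ∈ K} := by
    rw [← Nat.card_prod]
    refine card_le_mul_of_fiber (fun bx : B × {x : G // IsConj m x ∧ x ∈ U ⊓ K} =>
      (⟨(bx.1 : G) * bx.2.1 * (bx.1 : G)⁻¹, bx.2.2.1.trans (isConj_iff.mpr ⟨bx.1, rfl⟩),
        mul_mem (mul_mem (Subgroup.le_normalizer bx.1.2) bx.2.2.2.2)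
          (inv_mem (Subgroup.le_normalizer bx.1.2))⟩ : {x : G // IsConj m x ∧ x ∈ K})) _ fun y => ?_
    rcases isEmpty_or_nonempty {bx : B × {x : G // IsConj m x ∧ x ∈ U ⊓ K} //
      (⟨(bx.1 : G) * bx.2.1 * (bx.1 : G)⁻¹, bx.2.2.1.trans (isConj_iff.mpr ⟨bx.1, rfl⟩),
        mul_mem (mul_mem (Subgroup.le_normalizer bx.1.2) bx.2.2.2.2)
          (inv_mem (Subgroup.le_normalizer bx.1.2))⟩ : {x : G // IsConj m x ∧ x ∈ K}) = y} with
      hE | ⟨⟨⟨b₀, x₀⟩, h₀⟩⟩
    · rw [Nat.card_eq_zero.mpr (Or.inl hE)]; exact Nat.zero_le _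
    have hsame : ∀ q : {bx : B × {x : G // IsConj m x ∧ x ∈ U ⊓ K} //
        (⟨(bx.1 : G) * bx.2.1 * (bx.1 : G)⁻¹, bx.2.2.1.trans (isConj_iff.mpr ⟨bx.1, rfl⟩),
          mul_mem (mul_mem (Subgroup.le_normalizer bx.1.2) bx.2.2.2.2)
            (inv_mem (Subgroup.le_normalizer bx.1.2))⟩ : {x : G // IsConj m x ∧ x ∈ K}) = y},
        q.1.2 = x₀ ∧ ((b₀ : G)⁻¹ * q.1.1) ∈ CB x₀.1 := by
      rintro ⟨⟨b, x⟩, hq⟩
      have h1 : (b : G) * x.1 * (b : G)⁻¹ = (b₀ : G) * x₀.1 * (b₀ : G)⁻¹ :=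
        congrArg Subtype.val (hq.trans h₀.symm)
      set c : G := (b₀ : G)⁻¹ * b with hc
      have hcB : c ∈ B := mul_mem (inv_mem b₀.2) b.2
      have h2 : x₀.1 = c * x.1 * c⁻¹ := by
        have := congrArg (fun t => (b₀ : G)⁻¹ * t * b₀) h1.symm
        simpa [hc, mul_assoc] using this
      have hxA := hWA x.1 x.2.1 x.2.2.1 x.2.2.2
      have hx₀A := hWA x₀.1 x₀.2.1 x₀.2.2.1 x₀.2.2.2
      have hcx : c * x.1 = x.1 * c := by
        have h3 : c * x.1 * c⁻¹ * x.1⁻¹ ∈ A := by rw [← h2]; exact mul_mem hx₀A (inv_mem hxA)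
        have h4 : c * x.1 * c⁻¹ * x.1⁻¹ ∈ B := by
          rw [show c * x.1 * c⁻¹ * x.1⁻¹ = c * (x.1 * c⁻¹ * x.1⁻¹) by group]
          exact mul_mem hcB ((Subgroup.mem_normalizer_iff.mp x.2.2.2 _).mp (inv_mem hcB))
        have h5 := eq_one_of_coprime_card P.cop h3 h4
        rwa [mul_inv_eq_one, mul_inv_eq_iff_eq_mul] at h5
      have hx0 : x₀.1 = x.1 := by rw [h2, hcx, mul_inv_cancel_right]
      exact ⟨Subtype.ext hx0.symm, hcB, Subgroup.mem_centralizer_singleton_iff.mpr (hx0 ▸ hcx)⟩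
    refine le_trans (Nat.card_le_card_of_injective (fun q => (⟨_, (hsame q).2⟩ : CB x₀.1)) ?_) ?_
    · intro q q' h
      refine Subtype.ext (Prod.ext (Subtype.ext (mul_left_cancel (congrArg Subtype.val h))) ?_)
      rw [(hsame q).1, (hsame q').1]
    · have hx : x₀.1 ∈ {x : G | x ∈ A ∧ x ∈ K ∧ IsConj e x} :=
        ⟨hWA x₀.1 x₀.2.1 x₀.2.2.1 x₀.2.2.2, x₀.2.2.2, hem.trans x₀.2.1⟩
      rcases le_total (Nat.card (CB x₀.1)) (Nat.card (CB m)) with h | h
      · exact h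
      · exact hmax (j := x₀.1) hx h
  -- hence `C(m) = C_A(m) C_B(m)`
  have hTm : ((C : Subgroup G) : Set G) = ((A ⊓ C : Subgroup G) : Set G) * (CB m : Set G) := by
    refine permutes_of_card inf_le_right inf_le_right ?_
    have hbot : (A ⊓ C) ⊓ CB m = ⊥ := le_bot_iff.mp
      ((inf_le_inf inf_le_left inf_le_left).trans P.inf_eq_bot.le)
    rw [hbot, Subgroup.card_bot, mul_one]
    refine le_antisymm ?_ ?_
    · have h1 := Coprime.card_mul_inf (A ⊓ C) (CB m)
      rw [hbot, Subgroup.card_bot, mul_one] at h1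
      rw [← h1]
      exact Nat.card_mono (Set.toFinite (C : Set G))
        (by rintro _ ⟨a, ha, b, hb, rfl⟩; exact mul_mem ha.2 hb.2)
    · set iW := Nat.card {x : G // IsConj m x ∧ x ∈ U ⊓ K}
      have hW : 0 < iW := by
        haveI : Nonempty {x : G // IsConj m x ∧ x ∈ U ⊓ K} :=
          ⟨⟨m, IsConj.refl m, Subgroup.le_normalizer hmA, hmK⟩⟩
        exact Nat.card_pos
      set iU := Nat.card {x : G // IsConj m x ∧ x ∈ U}
      set iK := Nat.card {x : G // IsConj m x ∧ x ∈ K}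
      refine Nat.le_of_mul_le_mul_right (c := iW * Nat.card G) ?_ (Nat.mul_pos hW Nat.card_pos)
      calc Nat.card C * (iW * Nat.card G)
          = Nat.card C * Nat.card A * (Nat.card B * iW) := by rw [← P.card_mul]; ring
        _ ≤ Nat.card C * (Nat.card (A ⊓ C : Subgroup G) * iU) * (Nat.card (CB m) * iK) :=
            Nat.mul_le_mul (Nat.mul_le_mul_left _ hiU) hiK
        _ = Nat.card (A ⊓ C : Subgroup G) * Nat.card (CB m) * (Nat.card C * iU * iK) := by ring
        _ ≤ _ := Nat.mul_le_mul_left _ hsum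
  have hfac : ∀ x ∈ C, ∃ a ∈ A ⊓ C, ∃ b ∈ B ⊓ C, x = a * b := fun x hx => by
    rw [← SetLike.mem_coe, hTm] at hx
    obtain ⟨a, ha, b, hb, e'⟩ := hx
    exact ⟨a, ha, b, hb, e'.symm⟩
  have hfac' : ∀ x ∈ C, ∃ b ∈ B ⊓ C, ∃ a ∈ A ⊓ C, x = b * a := fun x hx => by
    obtain ⟨a, ha, b, hb, e'⟩ := hfac x⁻¹ (inv_mem hx)
    exact ⟨b⁻¹, inv_mem hb, a⁻¹, inv_mem ha, by rw [← mul_inv_rev, ← e', inv_inv]⟩
  haveI := S.ih A B C P (S.centralizer_ne_top hm1) hfac
  obtain ⟨z, hz, hz1⟩ := S.exists_zc_ne_one P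
  have hzC : z ∈ C := Subgroup.mem_centralizer_singleton_iff.mpr (zc_commute hz hmA).symm
  have hcoreA : ∀ t : ℕ, t.Prime → coreIn t C ≤ A := by
    intro t ht
    haveI := Fact.mk ht
    by_cases hA' : t ∣ Nat.card A
    · exact coreIn_le_left P hfac ht hA'
    by_cases hB' : t ∣ Nat.card B
    · by_cases hV : coreIn t C = ⊥
      · rw [hV]; exact bot_le
      exact (S.false_of_normalized P.symm (coreIn_le_left P.symm hfac' ht hB') hV hz hz1
        (le_normalizer_coreIn t C hzC)).elim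
    rw [coreIn_eq_bot_of_not_dvd fun h => (ht.dvd_mul.mp (P.card_mul ▸ h)).elim hA' hB']
    exact bot_le
  have hzF : z ∈ (Cfsg.fittingSubgroup C).map C.subtype :=
    centralizer_map_fitting_le hzC fun t ht v hv => zc_commute hz (hcoreA t ht hv)
  rintro c ⟨hcB, hcC⟩
  refine ⟨hcB, ?_⟩
  have hcz : c * z * c⁻¹ ∈ A := map_fitting_le hcoreA
    ((Subgroup.mem_normalizer_iff.mp
      ((Subgroup.le_normalizer.trans (Cores.normalizer_le_normalizer_map _)) hcC) z).mp hzF)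
  have hzc : z ∈ MulAut.conj c⁻¹ • A := by
    rw [mem_conj_iff, inv_inv]; exact hcz
  exact (Subgroup.inv_mem_iff _).mp (mem_normalizer_iff_conj.mpr (S.conj_eq_of_mem P hz hz1 hzc))

end Cfsg.Agent.Products
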