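/-
The simple minimal counterexample to Wielandt's theorem, conclusion: two conjugates of `B` meet in
at most `|B ∩ N(A)|` elements, and counting conjugates of `A` and of `B` gives a contradiction.
Main result: `Cex.false`.
-/
import Cfsg.Agent.Lib.Products.Fusion
import Cfsg.Agent.Lib.Solvable.Maximal

set_option autoImplicit false

open scoped Pointwise commutatorElement

namespace Cfsg.Agent.Products

open Solvable (mem_conj_iff card_conj mem_normalizer_iff_conj)

variable {G : Type*} [Group G] [Finite G] {A B : Subgroup G}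

theorem NPair.index_right (P : NPair A B) : B.index = Nat.card A := by
  refine Nat.eq_of_mul_eq_mul_left (Nat.card_pos (α := B)) ?_
  rw [B.card_mul_index, ← P.card_mul, mul_comm]

/-- For `r ∣ |B|`, every `r`-subgroup lies in a conjugate of `B`. -/
theorem exists_conj_ge_of_isPGroup (P : NPair A B) {r : ℕ} (hr : r.Prime) (hrd : r ∣ Nat.card B)
    {V : Subgroup G} (hV : IsPGroup r V) : ∃ g : G, V ≤ MulAut.conj g • B := by
  haveI := Fact.mk hr
  haveI := P.nilB
  obtain ⟨Q, K, hQB, -, hQ, hK, -, -, -, -, hc, -, -⟩ := exists_pPart r B P.nilB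
  obtain ⟨S, hS⟩ := Transfer.exists_sylow_eq_of_hall
    (by rw [P.index_right]; exact P.cop.symm) hrd hQ hK hQB hc
  obtain ⟨S', hS'⟩ := hV.exists_le_sylow
  obtain ⟨g, rfl⟩ := MulAction.exists_smul_eq G S S'
  refine ⟨g, hS'.trans ?_⟩
  rw [Sylow.coe_subgroup_smul, hS]
  exact Solvable.conj_mono g hQB

/-- Elements of `N(B)` killed by `|B|` lie in `B`. -/
theorem mem_of_pow_card (P : NPair A B) {h : G} (hN : h ∈ Subgroup.normalizer (B : Set G))
    (hh : h ^ Nat.card B = 1) : h ∈ B := by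
  have hle : Subgroup.zpowers h ≤ Subgroup.normalizer (B : Set G) := Subgroup.zpowers_le.mpr hN
  have hfac : ∀ x ∈ Subgroup.normalizer (B : Set G), ∃ b ∈ B ⊓ Subgroup.normalizer (B : Set G),
      ∃ a ∈ A ⊓ Subgroup.normalizer (B : Set G), x = b * a := fun x hx => by
    obtain ⟨a, ha, b, hb, e⟩ := exists_decomp_normalizer P (inv_mem hx)
    exact ⟨b⁻¹, inv_mem ⟨hb, Subgroup.le_normalizer hb⟩, a⁻¹, inv_mem ha,
      by rw [← mul_inv_rev, ← e, inv_inv]⟩
  have hle2 : Subgroup.zpowers h ⊔ B ≤ Subgroup.normalizer (B : Set G) :=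
    sup_le hle Subgroup.le_normalizer
  have hB' : B ⊓ Subgroup.normalizer (B : Set G) = B := inf_eq_left.mpr Subgroup.le_normalizer
  refine (le_left_of_coprime (V := Subgroup.zpowers h ⊔ B) hfac hle2 P.cop.symm ?_ ?_)
    (Subgroup.mem_sup_left (Subgroup.mem_zpowers h))
  · rw [hB']; exact le_sup_right.trans Subgroup.le_normalizer
  · have hp : Permutes (Subgroup.zpowers h) B := permutes_of_coe_eq
      (Subgroup.coe_mul_of_left_le_normalizer_right _ _ hle)
    refine Nat.Coprime.coprime_dvd_left ⟨_, hp.card_sup.symm⟩ (Nat.Coprime.mul_left ?_ P.cop.symm)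
    rw [Nat.card_zpowers]
    exact P.cop.symm.coprime_dvd_left (orderOf_dvd_of_pow_eq_one hh)

/-- Two different conjugates of `B` meet in at most `|B ∩ N(A)|` elements. -/
theorem Cex.card_inf_le (S : Cex G) (P : NPair A B) {g : G} (hg : MulAut.conj g • B ≠ B) :
    Nat.card (B ⊓ MulAut.conj g • B : Subgroup G) ≤
      Nat.card (B ⊓ Subgroup.normalizer (A : Set G) : Subgroup G) := by
  obtain ⟨g₀, hg₀, hmax⟩ := Set.Finite.exists_maximalFor
    (fun x => Nat.card (B ⊓ MulAut.conj x • B : Subgroup G)) {x : G | MulAut.conj x • B ≠ B}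
    (Set.toFinite _) ⟨g, hg⟩
  have hle : ∀ x : G, MulAut.conj x • B ≠ B → Nat.card (B ⊓ MulAut.conj x • B : Subgroup G) ≤
      Nat.card (B ⊓ MulAut.conj g₀ • B : Subgroup G) := fun x hx => by
    rcases le_total (Nat.card (B ⊓ MulAut.conj x • B : Subgroup G))
      (Nat.card (B ⊓ MulAut.conj g₀ • B : Subgroup G)) with h | h
    · exact h
    · exact hmax (j := x) hx h
  refine (hle g hg).trans ?_
  set I := B ⊓ MulAut.conj g₀ • B with hI
  by_cases hIbot : I = ⊥
  · rw [hIbot, Subgroup.card_bot]; exact Nat.card_pos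
  set H := Subgroup.centralizer (I : Set G) with hH
  set R := B ⊓ H with hR
  have hzH : zc B ≤ H := fun z hz => Subgroup.mem_centralizer_iff.mpr fun i hi => zc_commute hz hi.1
  -- `R` contains a Sylow subgroup of `H` for each prime of `B`
  have hsyl : ∀ r : ℕ, r.Prime → r ∣ Nat.card B → ∃ y ∈ zc B, y ≠ 1 ∧ ∃ T : Sylow r H,
      (∃ hy : y ∈ H, (⟨y, hy⟩ : H) ∈ T) ∧ (T : Subgroup H) ≤ R.subgroupOf H := by
    intro r hr hrd
    haveI := Fact.mk hr
    obtain ⟨y, hy, hyr⟩ := exists_zc_orderOf P.nilB hr hrd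
    have hy1 : y ≠ 1 := fun e => hr.ne_one (by rw [← hyr, e, orderOf_one])
    have hyp : IsPGroup r (Subgroup.zpowers (⟨y, hzH hy⟩ : H)) := IsPGroup.of_card (n := 1)
      (by rw [Nat.card_zpowers, Subgroup.orderOf_mk, hyr, pow_one])
    obtain ⟨T, hT⟩ := hyp.exists_le_sylow
    refine ⟨y, hy, hy1, T, ⟨hzH hy, hT (Subgroup.mem_zpowers _)⟩, ?_⟩
    obtain ⟨u, hu⟩ := exists_conj_ge_of_isPGroup P hr hrd (T.2.map H.subtype)
    have heq : MulAut.conj u • B = B := S.conj_eq_of_mem P.symm hy hy1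
      (hu ⟨⟨y, hzH hy⟩, hT (Subgroup.mem_zpowers _), rfl⟩)
    intro t ht
    exact Subgroup.mem_subgroupOf.mpr ⟨heq.le (hu ⟨t, ht, rfl⟩), t.2⟩
  have hRle : R ≤ H := inf_le_right
  have hnotdvd : ∀ r : ℕ, r.Prime → r ∣ Nat.card B → ¬ r ∣ (R.subgroupOf H).index := by
    intro r hr hrd hdvd
    haveI := Fact.mk hr
    obtain ⟨-, -, -, T, -, hT⟩ := hsyl r hr hrd
    exact T.not_dvd_index (hdvd.trans (Subgroup.index_dvd_of_le hT))
  -- `H` is not inside `B`
  have hRtop : R.subgroupOf H ≠ ⊤ := by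
    intro e
    obtain ⟨z, hz, hz1⟩ := S.exists_zc_ne_one (P.conj 1 g₀).symm
    have hzH' : z ∈ H := Subgroup.mem_centralizer_iff.mpr fun i hi => zc_commute hz hi.2
    have hzB : z ∈ B := (Subgroup.subgroupOf_eq_top.mp e hzH').1
    have h1 := S.conj_eq_of_mem (P.conj 1 g₀).symm hz hz1 (g := g₀⁻¹)
      (by rw [Solvable.conj_inv_smul]; exact hzB)
    rw [Solvable.conj_inv_smul] at h1
    exact hg₀ h1.symm
  by_cases hb : ∃ h ∈ H, h ∈ Subgroup.normalizer (B : Set G) ∧ h ∉ B
  · -- a `π`-element of `H ∩ N(B)`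
    obtain ⟨h, hhH, hhN, hhB⟩ := hb
    set K := Subgroup.normalizer (B : Set G) with hK
    set e₀ := h ^ Nat.card B with he₀
    have he₀H : e₀ ∈ H := pow_mem hhH _
    have he₀K : e₀ ∈ K := pow_mem hhN _
    have he₀1 : e₀ ≠ 1 := fun e => hhB (mem_of_pow_card P hhN e)
    have he₀A : orderOf e₀ ∣ Nat.card A := orderOf_dvd_of_pow_eq_one (by
      rw [he₀, ← pow_mul, mul_comm, P.card_mul, pow_card_eq_one'])
    -- conjugate it into `A` by an element of `B`
    set L₀ := Subgroup.zpowers e₀ ⊔ B with hL₀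
    have hL₀K : L₀ ≤ K := sup_le (Subgroup.zpowers_le.mpr he₀K) Subgroup.le_normalizer
    haveI hBn : (B.subgroupOf K).Normal := subgroupOf_normal le_rfl
    haveI : Group.IsSolvable (B.subgroupOf K) := by
      haveI := P.nilB
      exact Solvable.isSolvable_subgroupOf K
    have hsup : Subgroup.zpowers (⟨e₀, he₀K⟩ : K) ⊔ B.subgroupOf K =
        (A ⊓ L₀).subgroupOf K ⊔ B.subgroupOf K := by
      apply Subgroup.map_injective K.subtype_injective
      rw [Subgroup.map_sup, Subgroup.map_sup, MonoidHom.map_zpowers,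
        Subgroup.map_subgroupOf_eq_of_le Subgroup.le_normalizer,
        Subgroup.map_subgroupOf_eq_of_le (inf_le_right.trans hL₀K)]
      refine le_antisymm ?_ (sup_le inf_le_right le_sup_right)
      intro x hx
      have hx' : x ∈ L₀ := hx
      obtain ⟨a, ha, b, hb, rfl⟩ := exists_decomp_normalizer P (hL₀K hx')
      refine mul_mem (Subgroup.mem_sup_left ⟨ha.1, ?_⟩) (Subgroup.mem_sup_right hb)
      have := mul_mem hx' (inv_mem (Subgroup.mem_sup_right hb : b ∈ L₀))
      rwa [mul_inv_cancel_right] at this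
    obtain ⟨n, hn, hconj⟩ := Solvable.exists_conj_of_sup_eq (Or.inl ‹_›) hsup
      (by
        rw [Nat.card_zpowers, Subgroup.orderOf_mk,
          Nat.card_congr (Subgroup.subgroupOfEquivOfLe Subgroup.le_normalizer).toEquiv]
        exact P.cop.coprime_dvd_left he₀A)
      (by
        rw [Nat.card_congr (Subgroup.subgroupOfEquivOfLe (inf_le_right.trans hL₀K)).toEquiv,
          Nat.card_congr (Subgroup.subgroupOfEquivOfLe Subgroup.le_normalizer).toEquiv]
        exact P.cop.coprime_dvd_left (Subgroup.card_dvd_of_le inf_le_left))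
    have hmem : MulAut.conj n (⟨e₀, he₀K⟩ : K) ∈ (A ⊓ L₀).subgroupOf K := by
      rw [← hconj]
      exact Subgroup.smul_mem_pointwise_smul _ (MulAut.conj n) _ (Subgroup.mem_zpowers _)
    have hnB : (n : G) ∈ B := hn
    have heA : (n : G) * e₀ * (n : G)⁻¹ ∈ A := hmem.1
    have heN : (n : G) * e₀ * (n : G)⁻¹ ∈ K := mul_mem (mul_mem n.2 he₀K) (inv_mem n.2)
    have he1 : (n : G) * e₀ * (n : G)⁻¹ ≠ 1 := fun e => he₀1 (by
      rwa [mul_inv_eq_one, mul_eq_left] at e)
    rw [← card_conj (n : G) I]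
    refine Subgroup.card_le_of_le fun x hx => ?_
    rw [mem_conj_iff] at hx
    have hxB : x ∈ B := by
      have := mul_mem (mul_mem hnB hx.1) (inv_mem hnB)
      simpa [mul_assoc] using this
    refine ⟨hxB, S.mem_normalizer_of_commute P heA heN he1 hxB ?_⟩
    have h1 := congrArg (fun t => (n : G) * t * (n : G)⁻¹) (Subgroup.mem_centralizer_iff.mp he₀H _ hx)
    simpa [mul_assoc] using h1
  · -- no fusion in the Hall subgroup `R` of `H`
    exfalso
    push Not at hb
    haveI : Group.IsNilpotent (R.subgroupOf H) := by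
      haveI := P.nilB
      haveI : Group.IsNilpotent R := CN.isNilpotent_of_le inf_le_left
      exact Group.nilpotent_of_mulEquiv (Subgroup.subgroupOfEquivOfLe hRle).symm
    have hRd : Nat.card (R.subgroupOf H) ∣ Nat.card B := by
      rw [Nat.card_congr (Subgroup.subgroupOfEquivOfLe hRle).toEquiv]
      exact Subgroup.card_dvd_of_le inf_le_left
    have hHall : Nat.Coprime (Nat.card (R.subgroupOf H)) (R.subgroupOf H).index :=
      Nat.coprime_of_dvd fun r hr h1 h2 => hnotdvd r hr (h1.trans hRd) h2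
    obtain ⟨N, hN, hc⟩ := Transfer.exists_normal_complement_of_no_fusion (R.subgroupOf H) hHall
      (fun x hx h hxh => by
        by_cases hhB : (h : G) ∈ B
        · exact ⟨h, ⟨hhB, h.2⟩, rfl⟩
        refine ⟨1, one_mem _, ?_⟩
        have hne : MulAut.conj (h : G) • B ≠ B := fun e => hhB (hb h h.2 (mem_normalizer_iff_conj.mpr e))
        have hIle : I ≤ B ⊓ MulAut.conj (h : G) • B := fun i hi => by
          refine Subgroup.mem_inf.mpr ⟨hi.1, ?_⟩
          rw [mem_conj_iff, mul_assoc, Subgroup.mem_centralizer_iff.mp h.2 i hi, inv_mul_cancel_left]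
          exact hi.1
        have heq := Subgroup.eq_of_le_of_card_ge hIle (hle _ hne)
        have hxI : (h : G) * x * (h : G)⁻¹ ∈ I := by
          rw [heq]
          refine Subgroup.mem_inf.mpr ⟨hxh.1, ?_⟩
          rw [mem_conj_iff]
          simpa [mul_assoc] using hx.1
        have h1 := Subgroup.mem_centralizer_iff.mp h.2 _ hxI
        rw [inv_mul_cancel_right] at h1
        refine Subtype.ext ?_
        simp only [Subgroup.coe_mul, Subgroup.coe_inv, OneMemClass.coe_one, one_mul, inv_one, mul_one]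
        exact (mul_left_cancel h1.symm).symm)
    haveI := hN
    have hNcard : Nat.card N = (R.subgroupOf H).index := hc.index_eq_card.symm
    have hN1 : Nat.card N ≠ 1 := fun e => hRtop (Subgroup.index_eq_one.mp (hNcard ▸ e))
    obtain ⟨p, hp, hpN⟩ := Nat.exists_prime_and_dvd hN1
    haveI := Fact.mk hp
    have hpA : p ∣ Nat.card A := by
      have h1 : p ∣ Nat.card A * Nat.card B := P.card_mul.symm ▸
        hpN.trans ((Subgroup.card_subgroup_dvd_card N).trans (Subgroup.card_subgroup_dvd_card H))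
      exact (hp.dvd_mul.mp h1).resolve_right fun h => hnotdvd p hp h (hNcard ▸ hpN)
    have hB1 : Nat.card B ≠ 1 := fun e => S.ne_bot P.symm (Subgroup.card_eq_one.mp e)
    obtain ⟨r, hr, hrd⟩ := Nat.exists_prime_and_dvd hB1
    haveI := Fact.mk hr
    obtain ⟨y, hy, hy1, T, ⟨hyH, hyT⟩, -⟩ := hsyl r hr hrd
    obtain ⟨P₀⟩ : Nonempty (Sylow p N) := inferInstance
    set V : Subgroup H := (P₀ : Subgroup N).map N.subtype with hV
    set NP := Subgroup.normalizer (V : Set H) with hNP
    have hfr : NP ⊔ N = ⊤ := Sylow.normalizer_sup_eq_top P₀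
    have hidx : ¬ r ∣ NP.index := by
      intro hd
      have h1 : NP.index ∣ Nat.card N := by
        rw [← Subgroup.relIndex_top_right, ← hfr, Solvable.relIndex_sup_of_normal]
        exact Subgroup.relIndex_dvd_card _ _
      exact hnotdvd r hr hrd (hNcard ▸ hd.trans h1)
    obtain ⟨T₂⟩ : Nonempty (Sylow r NP) := inferInstance
    have hT₂ : ¬ r ∣ ((T₂ : Subgroup NP).map NP.subtype).index := by
      rw [Subgroup.index_map_subtype]
      exact hr.not_dvd_mul T₂.not_dvd_index hidx
    obtain ⟨h, hh⟩ := MulAction.exists_smul_eq H T ((T₂.2.map NP.subtype).toSylow hT₂)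
    have hmem : h * (⟨y, hyH⟩ : H) * h⁻¹ ∈ NP := by
      have h1 : h * (⟨y, hyH⟩ : H) * h⁻¹ ∈ ((h • T : Sylow r H) : Subgroup H) := by
        rw [Sylow.coe_subgroup_smul]
        exact Subgroup.smul_mem_pointwise_smul _ (MulAut.conj h) _ hyT
      rw [hh] at h1
      obtain ⟨w, -, hw⟩ := h1
      exact hw ▸ w.2
    have hVp : IsPGroup p (V.map H.subtype) := (P₀.2.map _).map _
    obtain ⟨u, hu⟩ := exists_conj_ge_of_isPGroup P.symm hp hpA hVp
    have hVne : V.map H.subtype ≠ ⊥ := by
      rw [ne_eq, Subgroup.map_eq_bot_iff_of_injective _ H.subtype_injective, hV,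
        Subgroup.map_eq_bot_iff_of_injective _ N.subtype_injective]
      exact P₀.ne_bot_of_dvd_card hpN
    refine S.false_of_normalized (P.conj u (h : G)) hu hVne (zc_conj_mem (h : G) hy) ?_ ?_
    · intro e
      exact hy1 (by rwa [mul_inv_eq_one, mul_eq_left] at e)
    · exact Subgroup.le_normalizer_map H.subtype ⟨_, hmem, rfl⟩

/-- Counting the conjugates of `B`. -/
theorem Cex.card_bound (S : Cex G) (P : NPair A B) :
    ∃ k : ℕ, Nat.card A = Nat.card (A ⊓ Subgroup.normalizer (B : Set G) : Subgroup G) * k ∧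
      Nat.card B ≤ Nat.card (B ⊓ Subgroup.normalizer (A : Set G) : Subgroup G) * (k - 1) := by
  classical
  set K := Subgroup.normalizer (B : Set G) with hK
  refine ⟨K.index, ?_, ?_⟩
  · have h1 : (K : Set G) = ((A ⊓ K : Subgroup G) : Set G) * (B : Set G) := by
      refine Set.Subset.antisymm (fun x hx => ?_) ?_
      · obtain ⟨a, ha, b, hb, e⟩ := exists_decomp_normalizer P hx
        exact ⟨a, ha, b, hb, e.symm⟩
      · rintro _ ⟨a, ha, b, hb, rfl⟩
        exact K.mul_mem ha.2 (Subgroup.le_normalizer hb)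
    have h2 := Coprime.card_mul_inf (A ⊓ K) B
    rw [← h1, show (A ⊓ K) ⊓ B = ⊥ from le_bot_iff.mp
      ((inf_le_inf inf_le_left le_rfl).trans P.inf_eq_bot.le), Subgroup.card_bot, mul_one] at h2
    refine Nat.eq_of_mul_eq_mul_right (Nat.card_pos (α := B)) ?_
    rw [P.card_mul, mul_assoc, mul_comm K.index, ← mul_assoc, ← h2]
    exact K.card_mul_index.symm
  · have hKtop : K ≠ ⊤ := S.normalizer_ne_top (S.ne_bot P.symm) (S.ne_top P.symm)
    obtain ⟨g, hg⟩ : ∃ g : G, g ∉ K := by
      by_contra h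
      push Not at h
      exact hKtop (eq_top_iff.mpr fun g _ => h g)
    have hne : MulAut.conj g • B ≠ B := fun e => hg (mem_normalizer_iff_conj.mpr e)
    have hcard : Nat.card {q : G ⧸ K // q ≠ (1 : G)} = K.index - 1 := by
      haveI := Fintype.ofFinite (G ⧸ K)
      rw [Subgroup.index_eq_card, Nat.card_eq_fintype_card, Nat.card_eq_fintype_card]
      simp [Fintype.card_subtype_compl]
    rw [← hcard]
    have hf : ∀ b : B, (((b : G) * g : G) : G ⧸ K) ≠ (1 : G) := fun b e => by
      rw [QuotientGroup.eq, mul_one, inv_mem_iff] at e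
      have := mul_mem (inv_mem (Subgroup.le_normalizer b.2)) e
      rw [inv_mul_cancel_left] at this
      exact hg this
    refine (card_le_mul_of_fiber (fun b : B => (⟨_, hf b⟩ : {q : G ⧸ K // q ≠ (1 : G)}))
      (Nat.card (B ⊓ MulAut.conj g • B : Subgroup G)) fun q => ?_).trans
      (Nat.mul_le_mul_right _ (S.card_inf_le P hne))
    rcases isEmpty_or_nonempty {b : B // (⟨_, hf b⟩ : {q : G ⧸ K // q ≠ (1 : G)}) = q} with
      hE | ⟨⟨b₀, h₀⟩⟩
    · rw [Nat.card_eq_zero.mpr (Or.inl hE)]; exact Nat.zero_le _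
    refine Nat.card_le_card_of_injective (fun b => ⟨(b₀ : G)⁻¹ * (b.1 : G),
      B.mul_mem (B.inv_mem b₀.2) b.1.2, ?_⟩) ?_
    · have h1 : (((b₀ : G) * g : G) : G ⧸ K) = (((b.1 : G) * g : G) : G ⧸ K) :=
        congrArg Subtype.val (h₀.trans b.2.symm)
      rw [QuotientGroup.eq] at h1
      set c : G := (b₀ : G)⁻¹ * b.1 with hc
      have hcB : c ∈ B := B.mul_mem (B.inv_mem b₀.2) b.1.2
      have h2 : g⁻¹ * c * g ∈ K := by simpa [hc, mul_assoc] using h1
      refine (mem_conj_iff g c B).mpr (mem_of_pow_card P h2 ?_)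
      rw [show g⁻¹ * c * g = g⁻¹ * c * g⁻¹⁻¹ by rw [inv_inv], conj_pow,
        orderOf_dvd_iff_pow_eq_one.mp (Subgroup.orderOf_dvd_natCard _ hcB)]
      group
    · intro b b' h
      exact Subtype.ext (Subtype.ext (mul_left_cancel (congrArg Subtype.val h)))

/-- There is no simple minimal counterexample with coprime orders. -/
theorem Cex.false (S : Cex G) (P : NPair A B) : False := by
  obtain ⟨k, hk1, hk2⟩ := S.card_bound P
  obtain ⟨m, hm1, hm2⟩ := S.card_bound P.symm
  rw [hm1] at hk2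
  rw [hk1] at hm2
  have h1 := Nat.le_of_mul_le_mul_left hk2 Nat.card_pos
  have h2 := Nat.le_of_mul_le_mul_left hm2 Nat.card_pos
  have hA := Nat.card_pos (α := A)
  rw [hk1] at hA
  have : 0 < k := Nat.pos_of_mul_pos_left hA
  omega

end Cfsg.Agent.Products
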