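/-
The theorem of Kegel and Wielandt: a product of two nilpotent groups is solvable.
-/
import Cfsg.Agent.Lib.Products.Coprime

set_option autoImplicit false

open scoped Pointwise

namespace Cfsg.Agent.Products

open Solvable (mem_conj_iff card_conj mem_normalizer_iff_conj)

universe u

theorem isNilpotent_subgroupOf {G : Type u} [Group G] {A L : Subgroup G}
    (hA : Group.IsNilpotent A) (h : A ≤ L) : Group.IsNilpotent (A.subgroupOf L) := by
  haveI := hA
  exact Group.nilpotent_of_mulEquiv (Subgroup.subgroupOfEquivOfLe h).symm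

theorem kegel_wielandt_aux : ∀ (n : ℕ) (G : Type u) [Group G] [Finite G], Nat.card G = n →
    ∀ A B : Subgroup G, Group.IsNilpotent A → Group.IsNilpotent B →
      (∀ g : G, ∃ a ∈ A, ∃ b ∈ B, g = a * b) → Group.IsSolvable G := by
  intro n
  induction n using Nat.strong_induction_on with
  | _ n ih =>
    intro G _ _ hn A B hA hB hAB
    by_contra hns
    -- factorised proper subgroups and proper quotients are solvable
    have hsub : ∀ A' B' L : Subgroup G, Group.IsNilpotent A' → Group.IsNilpotent B' → L ≠ ⊤ →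
        (∀ x ∈ L, ∃ a ∈ A' ⊓ L, ∃ b ∈ B' ⊓ L, x = a * b) → Group.IsSolvable L := by
      intro A' B' L hA' hB' hL hfac
      refine ih (Nat.card L) (hn ▸ Solvable.card_lt_of_ne_top hL) L rfl
        ((A' ⊓ L).subgroupOf L) ((B' ⊓ L).subgroupOf L) ?_ ?_ fun x => ?_
      · haveI := hA'
        exact isNilpotent_subgroupOf (CN.isNilpotent_of_le inf_le_left) inf_le_right
      · haveI := hB'
        exact isNilpotent_subgroupOf (CN.isNilpotent_of_le inf_le_left) inf_le_right
      · obtain ⟨a, ha, b, hb, e⟩ := hfac x x.2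
        exact ⟨⟨a, ha.2⟩, ha, ⟨b, hb.2⟩, hb, Subtype.ext e⟩
    have hquot : ∀ N : Subgroup G, [N.Normal] → N ≠ ⊥ → Group.IsSolvable (G ⧸ N) := by
      intro N _ hN
      refine ih (Nat.card (G ⧸ N)) (hn ▸ Solvable.card_quotient_lt hN) (G ⧸ N) rfl
        (A.map (QuotientGroup.mk' N)) (B.map (QuotientGroup.mk' N))
        (Cores.isNilpotent_map _ hA) (Cores.isNilpotent_map _ hB) fun x => ?_
      obtain ⟨g, rfl⟩ := QuotientGroup.mk'_surjective N x
      obtain ⟨a, ha, b, hb, rfl⟩ := hAB g
      exact ⟨_, Subgroup.mem_map_of_mem _ ha, _, Subgroup.mem_map_of_mem _ hb, map_mul _ a b⟩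
    haveI : Nontrivial G := by
      by_contra hnt
      haveI := not_nontrivial_iff_subsingleton.mp hnt
      exact hns inferInstance
    obtain ⟨M, hMn, hM1, -⟩ := Cores.exists_minimal_normal (G := G)
    haveI := hMn
    -- a normal subgroup minimal among all nontrivial ones
    obtain ⟨R, ⟨hRn, hR1⟩, hRmin⟩ := Set.Finite.exists_minimal
      (Set.toFinite {N : Subgroup G | N.Normal ∧ N ≠ ⊥}) ⟨M, hMn, hM1⟩
    haveI := hRn
    have hRns : ¬ Group.IsSolvable R := fun h =>
      hns ((Solvable.isSolvable_subgroup_quotient_iff R).mpr ⟨h, hquot R hR1⟩)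
    have hRle : ∀ N : Subgroup G, N.Normal → N ≠ ⊥ → R ≤ N := by
      intro N hN hN1
      haveI := hN
      by_contra hle
      have hbot : R ⊓ N = ⊥ := by
        by_contra h
        exact hle ((hRmin ⟨inferInstance, h⟩ inf_le_left).trans inf_le_right)
      haveI := hquot N hN1
      refine hRns (Group.isSolvable_of_isSolvable_injective
        (f := (QuotientGroup.mk' N).comp R.subtype) ?_)
      rw [← MonoidHom.ker_eq_bot_iff, eq_bot_iff]
      intro x hx
      have hx' : (x : G) ∈ R ⊓ N := ⟨x.2, (QuotientGroup.eq_one_iff (x : G)).mp hx⟩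
      rw [hbot, Subgroup.mem_bot] at hx'
      exact Subgroup.mem_bot.mpr (Subtype.ext hx')
    have hCR : Subgroup.centralizer (R : Set G) = ⊥ := by
      by_contra h
      have h1 : R ≤ Subgroup.centralizer (R : Set G) := hRle _ inferInstance h
      exact hRns (by
        letI : CommGroup R := { (inferInstance : Group R) with
          mul_comm := fun a b => Subtype.ext (Subgroup.mem_centralizer_iff.mp (h1 b.2) a a.2) }
        infer_instance)
    -- the orders are coprime
    have hcop : (Nat.card A).Coprime (Nat.card B) := by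
      refine Nat.coprime_of_dvd fun p hp hpA hpB => ?_
      haveI := Fact.mk hp
      obtain ⟨QA, KA, hQAA, -, hQA, hKA, hNA, -, -, -, hcA, -, -⟩ := exists_pPart p A hA
      obtain ⟨QB, KB, hQBB, -, hQB, hKB, hNB, -, -, -, hcB, -, -⟩ := exists_pPart p B hB
      obtain ⟨P, hP⟩ := hQA.exists_le_sylow
      obtain ⟨S, hS⟩ := hQB.exists_le_sylow
      obtain ⟨c, rfl⟩ := MulAction.exists_smul_eq G P S
      obtain ⟨a', ha', b', hb', hc⟩ := hAB c⁻¹
      set T : Subgroup G := MulAut.conj a'⁻¹ • (P : Subgroup G) with hT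
      have hQAT : QA ≤ T := by
        rw [← mem_normalizer_iff_conj.mp (hNA (inv_mem ha'))]
        exact Solvable.conj_mono _ hP
      have hQBT : QB ≤ T := by
        rw [Sylow.coe_subgroup_smul] at hS
        have h1 : MulAut.conj b' • QB = QB := mem_normalizer_iff_conj.mp (hNB hb')
        rw [← h1, hT]
        refine (Solvable.conj_mono b' hS).trans ?_
        change MulAut.conj b' • (MulAut.conj c • (P : Subgroup G)) ≤ _
        rw [Solvable.conj_conj, show b' * c = a'⁻¹ by
          rw [← inv_inv c, hc, mul_inv_rev, mul_inv_cancel_left]]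
      have hTp : IsPGroup p T := by
        obtain ⟨i, hi⟩ := IsPGroup.iff_card.mp P.2
        exact IsPGroup.of_card (n := i) (by rw [hT, card_conj]; exact hi)
      have hfull : ((T : Subgroup G) : Set G) = (QA : Set G) * (QB : Set G) := by
        refine permutes_of_card hQAT hQBT (le_antisymm ?_ ?_)
        · rw [← Coprime.card_mul_inf]
          refine Nat.mul_le_mul_right _ (Nat.card_mono (Set.toFinite (T : Set G)) ?_)
          rintro _ ⟨x, hx, y, hy, rfl⟩
          exact T.mul_mem (hQAT hx) (hQBT hy)
        · obtain ⟨i, hi⟩ := IsPGroup.iff_card.mp hTp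
          obtain ⟨j, hj⟩ := IsPGroup.iff_card.mp (hQA.to_le (inf_le_left : QA ⊓ QB ≤ QA))
          have huniv : ((A : Set G) * (B : Set G)) = Set.univ := Set.eq_univ_of_forall fun g => by
            obtain ⟨a, ha, b, hb, e⟩ := hAB g
            exact ⟨a, ha, b, hb, e.symm⟩
          have h1 := Coprime.card_mul_inf A B
          rw [huniv, Nat.card_univ, ← hcA, ← hcB] at h1
          refine Nat.le_of_dvd (Nat.mul_pos Nat.card_pos Nat.card_pos) ?_
          have h2 : Nat.card T * Nat.card (QA ⊓ QB : Subgroup G) ∣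
              (Nat.card QA * Nat.card QB) * (Nat.card KA * Nat.card KB) := by
            rw [show Nat.card QA * Nat.card QB * (Nat.card KA * Nat.card KB) =
              Nat.card QA * Nat.card KA * (Nat.card QB * Nat.card KB) by ring, ← h1]
            exact Nat.mul_dvd_mul (Subgroup.card_subgroup_dvd_card T)
              (Subgroup.card_dvd_of_le (inf_le_inf hQAA hQBB))
          refine Nat.Coprime.dvd_of_dvd_mul_right ?_ h2
          rw [hi, hj, ← pow_add]
          exact (Nat.Coprime.mul_left hKA hKB).symm.pow_left _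
      have hperm : ∀ g : G, Permutes QA (MulAut.conj g • QB) := by
        intro g
        obtain ⟨a, ha, b, hb, rfl⟩ := hAB g
        rw [← Solvable.conj_conj, mem_normalizer_iff_conj.mp (hNB hb),
          ← mem_normalizer_iff_conj.mp (hNA ha)]
        exact (permutes_of_coe_eq hfull).conj a
      obtain ⟨X, hQX, hXp, -, hXn⟩ := exists_normalized_ge hperm
        (fun X : Subgroup G => IsPGroup p X) hQA (by
          intro A' g b hA' hp' _ _ heq
          refine IsPGroup.to_le ((hp' g).isPGroup_sup hA' (hQB.map _)) ?_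
          exact le_sup_left.trans heq.le)
      have hQB1 : QB ≠ ⊥ := fun e => hp.ne_one (Nat.eq_one_of_dvd_coprimes hKB
        (by rw [← hcB, e, Subgroup.card_bot, one_mul] at hpB; exact hpB) dvd_rfl)
      have hQA1 : QA ≠ ⊥ := fun e => hp.ne_one (Nat.eq_one_of_dvd_coprimes hKA
        (by rw [← hcA, e, Subgroup.card_bot, one_mul] at hpA; exact hpA) dvd_rfl)
      have hRN : R ≤ Subgroup.normalizer (X : Set G) :=
        (hRle _ Subgroup.normalClosure_normal fun e =>
          hQB1 (le_bot_iff.mp (e ▸ Subgroup.le_normalClosure))).trans hXn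
      have hXR : X ⊓ R = ⊥ := by
        have hn' : ((X ⊓ R).subgroupOf R).Normal := subgroupOf_normal fun r hr => by
          refine Subgroup.mem_normalizer_iff.mpr fun x => ?_
          exact and_congr (Subgroup.mem_normalizer_iff.mp (hRN hr) x)
            (Subgroup.mem_normalizer_iff.mp (Subgroup.le_normalizer hr) x)
        have hle : ((X ⊓ R).subgroupOf R).map R.subtype ≤ (Cfsg.pCore p R).map R.subtype :=
          Subgroup.map_mono (Cores.le_pCore hn'
            ((hXp.to_le inf_le_left).comap_subtype (K := R)))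
        rw [Subgroup.map_subgroupOf_eq_of_le inf_le_right, Cores.pCore_map_subtype] at hle
        have hcore : Cfsg.pCore p G ⊓ R = ⊥ := by
          by_contra h
          refine hRns ?_
          haveI := Solvable.isSolvable_of_isPGroup (Cores.isPGroup_pCore p G)
          exact Solvable.isSolvable_of_le ((hRle _ inferInstance h).trans inf_le_left)
        exact le_bot_iff.mp (hcore ▸ hle)
      refine hQA1 (le_bot_iff.mp (hQX.trans ?_))
      rw [← hCR]
      intro x hx
      refine Subgroup.mem_centralizer_iff.mpr fun r hr => ?_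
      have h1 : r * x * r⁻¹ * x⁻¹ ∈ X ⊓ R := ⟨X.mul_mem
        ((Subgroup.mem_normalizer_iff.mp (hRN hr) x).mp hx) (X.inv_mem hx), by
        rw [show r * x * r⁻¹ * x⁻¹ = r * (x * r⁻¹ * x⁻¹) by group]
        exact R.mul_mem hr (hRn.conj_mem _ (R.inv_mem hr) x)⟩
      rwa [hXR, Subgroup.mem_bot, mul_inv_eq_one, mul_inv_eq_iff_eq_mul] at h1
    have hP : NPair A B := ⟨hA, hB, hcop, hAB⟩
    -- `G` is simple
    have hdvd : ∀ C D : Subgroup G, NPair C D → R.index ∣ Nat.card C := by
      intro C D hCD
      have htop : C ⊔ R = ⊤ := by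
        by_contra hne
        haveI := hsub C D (C ⊔ R) hCD.nilA hCD.nilB hne fun x hx => by
          obtain ⟨a, ha, b, hb, rfl⟩ := hCD.mul x
          have haL : a ∈ C ⊔ R := Subgroup.mem_sup_left ha
          exact ⟨a, ⟨ha, haL⟩, b, ⟨hb, by
            have := mul_mem (inv_mem haL) hx
            rwa [inv_mul_cancel_left] at this⟩, rfl⟩
        exact hRns (Solvable.isSolvable_of_le (le_sup_right : R ≤ C ⊔ R))
      have h1 := Solvable.card_sup_dvd C R
      rw [htop, Subgroup.card_top, ← R.card_mul_index, mul_comm (Nat.card C)] at h1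
      exact Nat.dvd_of_mul_dvd_mul_left Nat.card_pos h1
    have hRtop : R = ⊤ := Subgroup.index_eq_one.mp
      (Nat.eq_one_of_dvd_coprimes hcop (hdvd A B hP) (hdvd B A hP.symm))
    haveI hsimple : IsSimpleGroup G := ⟨fun N hN => by
      by_cases h : N = ⊥
      · exact Or.inl h
      · exact Or.inr (top_le_iff.mp (hRtop ▸ hRle N hN h))⟩
    exact Cex.false ⟨hsimple, hns, fun A' B' L hP' => hsub A' B' L hP'.nilA hP'.nilB⟩ hP

/-- **Kegel–Wielandt**: a finite product of two nilpotent subgroups is solvable. -/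
theorem kegel_wielandt {G : Type u} [Group G] [Finite G] {A B : Subgroup G}
    (hA : Group.IsNilpotent A) (hB : Group.IsNilpotent B)
    (hAB : ∀ g : G, ∃ a ∈ A, ∃ b ∈ B, g = a * b) : Group.IsSolvable G :=
  kegel_wielandt_aux _ G rfl A B hA hB hAB

end Cfsg.Agent.Products
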